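import Cfsg.Agent.Lib.SuzType.Vec

/-!
Isometries fixing a triple, and involutory isometries.
-/

set_option autoImplicit false

namespace CfsgLib.SuzType

theorem rigid_check : ∀ c2 : V6, qf c2 = false → bf 1 c2 = false →
    ∀ i : Bool, qf (xr c2 (xr 12 (sel i 1))) = false → bf c2 (xr c2 (xr 12 (sel i 1))) = true →
    ∀ j : Bool, qf (xr c2 (xr 20 (sel j 1))) = true →
    ∀ c5 : V6, qf c5 = true → bf 1 c5 = false → bf c2 c5 = false →
      bf (xr c2 (xr 20 (sel j 1))) c5 = true →
    ∀ c1 : V6, qf c1 = false → bf 1 c1 = true → bf c1 c2 = false → bf c1 c5 = false →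
      Good ⟨1, c1, c2, xr c2 (xr 12 (sel i 1)), xr c2 (xr 20 (sel j 1)), c5⟩ →
      c2 = 4 ∨ c2 = xr 4 1 := by
  decide +kernel

theorem rigid_check5 : ∀ c5 : V6, qf c5 = true → bf 1 c5 = false →
    ∀ k : Bool, bf (xr 4 (sel k 1)) c5 = false → bf 12 c5 = false → bf 20 c5 = true →
    ∀ c1 : V6, qf c1 = false → bf 1 c1 = true → bf c1 (xr 4 (sel k 1)) = false → bf c1 c5 = false →
    ∀ i j : Bool,
      Good ⟨1, c1, xr 4 (sel k 1), xr 8 (sel i 1), xr 16 (sel j 1), c5⟩ →
      c5 = 32 ∨ c5 = xr 32 1 := by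
  decide +kernel

theorem app_one (L : Lin) : app L 1 = L.c0 := by
  simp [app, cb, sel, Nat.testBit, xr_zero, zero_xr, xr_self]

theorem app_units (L : Lin) :
    app L 2 = L.c1 ∧ app L 4 = L.c2 ∧ app L 8 = L.c3 ∧ app L 16 = L.c4 ∧ app L 32 = L.c5 := by
  simp [app, cb, sel, Nat.testBit, xr_zero, zero_xr, xr_self]

theorem Iso.bf_eq {L : Lin} (h : Iso L) (a b : V6) : bf (app L a) (app L b) = bf a b := by
  have e := qf_xr (app L a) (app L b)
  rw [← app_xr, h, qf_xr, h, h] at e
  revert e
  cases qf a <;> cases qf b <;> cases bf a b <;> cases bf (app L a) (app L b) <;> simp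

/-- An even isometry fixing the base triple acts trivially on the orthogonal quotient. -/
theorem rigid {L : Lin} (h : Good L) (h1 : app L 1 = 1) (hA : app L 12 = 12 ∨ app L 12 = xr 12 1)
    (hB : app L 20 = 20 ∨ app L 20 = xr 20 1) {x : V6} (hx : bf 1 x = false) :
    app L x = x ∨ app L x = xr x 1 := by
  obtain ⟨u1, u2, u3, u4, u5⟩ := app_units L
  have hq : ∀ v w, app L v = w → qf w = qf v := fun v w e => e ▸ h.1 v
  have hb : ∀ v v' w w', app L v = w → app L v' = w' → bf w w' = bf v v' := fun v v' w w' e e' =>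
    e ▸ e' ▸ Iso.bf_eq h.1 v v'
  have d12 : app L 12 = xr L.c2 L.c3 := by
    rw [show (12 : V6) = xr 4 8 by decide, app_xr, u2, u3]
  have d20 : app L 20 = xr L.c2 L.c4 := by
    rw [show (20 : V6) = xr 4 16 by decide, app_xr, u2, u4]
  obtain ⟨i, hi⟩ : ∃ i : Bool, L.c3 = xr L.c2 (xr 12 (sel i 1)) := by
    rcases hA with e | e <;> rw [d12] at e
    · exact ⟨false, by rw [show sel false (1 : V6) = 0 from rfl, xr_zero, ← e, xr_cancel]⟩
    · exact ⟨true, by rw [show sel true (1 : V6) = 1 from rfl, ← e, xr_cancel]⟩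
  obtain ⟨j, hj⟩ : ∃ j : Bool, L.c4 = xr L.c2 (xr 20 (sel j 1)) := by
    rcases hB with e | e <;> rw [d20] at e
    · exact ⟨false, by rw [show sel false (1 : V6) = 0 from rfl, xr_zero, ← e, xr_cancel]⟩
    · exact ⟨true, by rw [show sel true (1 : V6) = 1 from rfl, ← e, xr_cancel]⟩
  have hc0 : L.c0 = 1 := (app_one L).symm.trans h1
  have g1 : qf L.c1 = false := (hq _ _ u1).trans (by decide)
  have g2 : bf 1 L.c1 = true := (hb _ _ _ _ h1 u1).trans (by decide)
  have g3 : qf L.c2 = false := (hq _ _ u2).trans (by decide)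
  have g4 : bf 1 L.c2 = false := (hb _ _ _ _ h1 u2).trans (by decide)
  have g5 : qf L.c3 = false := (hq _ _ u3).trans (by decide)
  have g6 : bf L.c2 L.c3 = true := (hb _ _ _ _ u2 u3).trans (by decide)
  have g7 : qf L.c4 = true := (hq _ _ u4).trans (by decide)
  have g8 : qf L.c5 = true := (hq _ _ u5).trans (by decide)
  have g9 : bf 1 L.c5 = false := (hb _ _ _ _ h1 u5).trans (by decide)
  have g10 : bf L.c2 L.c5 = false := (hb _ _ _ _ u2 u5).trans (by decide)
  have g11 : bf L.c4 L.c5 = true := (hb _ _ _ _ u4 u5).trans (by decide)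
  have g12 : bf L.c1 L.c2 = false := (hb _ _ _ _ u1 u2).trans (by decide)
  have g13 : bf L.c1 L.c5 = false := (hb _ _ _ _ u1 u5).trans (by decide)
  have h2 : L.c2 = 4 ∨ L.c2 = xr 4 1 := by
    rw [hi] at g5 g6; rw [hj] at g7 g11
    refine rigid_check L.c2 g3 g4 i g5 g6 j g7 L.c5 g8 g9 g10 g11 L.c1 g1 g2 g12 g13 ?_
    rw [← hi, ← hj, ← hc0]; exact h
  obtain ⟨k, hk⟩ : ∃ k : Bool, L.c2 = xr 4 (sel k 1) := by
    rcases h2 with e | e
    · exact ⟨false, by rw [e]; decide⟩
    · exact ⟨true, by rw [e]; rfl⟩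
  have key : ∀ (k i : Bool) (e : V6), xr (xr 4 (sel k 1)) (xr e (sel i 1)) =
      xr (xr 4 e) (sel (k ^^ i) 1) := by decide +kernel
  have hi' : L.c3 = xr 8 (sel (k ^^ i) 1) := by
    rw [hi, hk, key, show xr (4 : V6) 12 = 8 by decide]
  have hj' : L.c4 = xr 16 (sel (k ^^ j) 1) := by
    rw [hj, hk, key, show xr (4 : V6) 20 = 16 by decide]
  have h5 : L.c5 = 32 ∨ L.c5 = xr 32 1 := by
    have g14 : bf 12 L.c5 = false := by
      rw [show (12 : V6) = xr 4 8 by decide, bf_xr_left]
      have e := (hb _ _ _ _ u3 u5).trans (show bf 8 32 = false by decide)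
      rw [hk, bf_xr_left] at g10
      rw [hi', bf_xr_left] at e
      revert g10 e g9
      cases k <;> cases i <;> cases bf 4 L.c5 <;> cases bf 8 L.c5 <;> simp [sel, bf_zero_left] <;>
        intro e <;> simp [e]
    have g15 : bf 20 L.c5 = true := by
      rw [show (20 : V6) = xr 4 16 by decide, bf_xr_left]
      rw [hk, bf_xr_left] at g10
      rw [hj', bf_xr_left] at g11
      revert g10 g11 g9
      cases k <;> cases j <;> cases bf 4 L.c5 <;> cases bf 16 L.c5 <;> simp [sel, bf_zero_left] <;>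
        intro e <;> simp [e]
    rw [hk] at g10 g12
    refine rigid_check5 L.c5 g8 g9 k g10 g14 g15 L.c1 g1 g2 g12 g13 (k ^^ i) (k ^^ j) ?_
    rw [← hi', ← hj', ← hk, ← hc0]; exact h
  have fin : ∀ (k i j l : Bool) (y : V6), bf 1 y = false →
      ∀ c1 : Unit, xr (xr (xr (sel (cb y 0) 1) 0) (xr (sel (cb y 2) (xr 4 (sel k 1)))
        (sel (cb y 3) (xr 8 (sel i 1))))) (xr (sel (cb y 4) (xr 16 (sel j 1)))
          (sel (cb y 5) (xr 32 (sel l 1)))) ∈ [y, xr y 1] := by
    decide +kernel
  obtain ⟨l, hl⟩ : ∃ l : Bool, L.c5 = xr 32 (sel l 1) := by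
    rcases h5 with e | e
    · exact ⟨false, by rw [e]; decide⟩
    · exact ⟨true, by rw [e]; rfl⟩
  have hx1 : cb x 1 = false := by
    revert hx; revert x; decide +kernel
  have := fin k (k ^^ i) (k ^^ j) l x hx ()
  simp only [app, hc0, hk, hi', hj', hl, hx1]
  simpa [sel] using this

attribute [local irreducible] app xr bf qf in
theorem exists_invol_vector {L : Lin} (h : Good L) (h2 : ∀ v, app L (app L v) = v)
    (hne : ∃ v, app L v ≠ v) :
    ∃ s : V6, s ≠ 0 ∧ qf s = false ∧ app L s = s ∧ (∃ x, s = xr x (app L x)) ∧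
      (∀ x, bf x s = false → xr x (app L x) = 0 ∨ xr x (app L x) = s) := by
  let f : V6 → V6 := fun v => xr v (app L v)
  have hadd : ∀ a b, f (xr a b) = xr (f a) (f b) := fun a b => by
    haveI : Std.Associative xr := ⟨xr_assoc⟩
    haveI : Std.Commutative xr := ⟨xr_comm⟩
    show xr (xr a b) (app L (xr a b)) = xr (xr a (app L a)) (xr b (app L b))
    rw [app_xr]; ac_rfl
  have hfix : ∀ a, app L (f a) = f a := fun a => by
    show app L (xr a (app L a)) = _
    rw [app_xr, h2, xr_comm]
  have hperp : ∀ y a, app L y = y → bf y (f a) = false := fun y a hy => by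
    show bf y (xr a (app L a)) = false
    rw [bf_xr_right]
    conv_lhs => arg 2; rw [← hy, Iso.bf_eq h.1]
    simp
  let im : Finset V6 := Finset.univ.image f
  let Fx : Finset V6 := Finset.univ.filter fun v => app L v = v
  have hfib : ∀ w ∈ im, ((Finset.univ : Finset V6).filter fun v => f v = w).card = Fx.card := by
    intro w hw
    obtain ⟨a, -, rfl⟩ := Finset.mem_image.mp hw
    refine Finset.card_bij' (fun v _ => xr a v) (fun v _ => xr a v) ?_ ?_ ?_ ?_
    · intro v hv
      simp only [Finset.mem_filter, Finset.mem_univ, true_and, Fx] at hv ⊢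
      have : f (xr a v) = 0 := by rw [hadd, hv, xr_self]
      exact (xr_eq_zero.mp this).symm
    · intro v hv
      simp only [Finset.mem_filter, Finset.mem_univ, true_and, Fx] at hv ⊢
      rw [hadd, show f v = 0 by show xr v (app L v) = 0; rw [hv, xr_self], xr_zero]
    · intro v _; exact xr_cancel a v
    · intro v _; exact xr_cancel a v
  have hsum : (64 : ℕ) = im.card * Fx.card := by
    have := Finset.card_eq_sum_card_image f (Finset.univ : Finset V6)
    rw [Finset.card_univ, Fintype.card_fin] at this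
    rw [this, Finset.sum_congr rfl hfib, Finset.sum_const, smul_eq_mul]
  have hle : im.card ≤ Fx.card := Finset.card_le_card fun w hw => by
    obtain ⟨a, -, rfl⟩ := Finset.mem_image.mp hw
    exact Finset.mem_filter.mpr ⟨Finset.mem_univ _, hfix a⟩
  have hFx : Fx.card = nfix L := rfl
  have h16 : nfix L = 16 := by
    rcases h.2 with e | e | e | e
    · rw [hFx, e] at hsum hle; omega
    · rw [hFx, e] at hsum hle; omega
    · exact e
    · exfalso
      obtain ⟨v, hv⟩ := hne
      have hcl : Fx = Finset.univ := Finset.eq_univ_of_card _ (hFx.trans (e.trans (Fintype.card_fin 64).symm))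
      exact hv (Finset.mem_filter.mp (hcl ▸ Finset.mem_univ v : v ∈ Fx)).2
  have him : im.card = 4 := by rw [hFx, h16] at hsum; omega
  -- two independent values
  obtain ⟨r₁, hr₁, hr₁0⟩ := Finset.exists_mem_ne (s := im) (by omega) 0
  obtain ⟨r₂, hr₂, hr₂n⟩ : ∃ r₂ ∈ im, r₂ ∉ ({0, r₁} : Finset V6) := by
    by_contra hh
    push Not at hh
    have h5 := Finset.card_le_card (show im ⊆ ({0, r₁} : Finset V6) from fun w hw => hh w hw)
    rw [him] at h5
    have h6 := @Finset.card_le_two V6 _ 0 r₁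
    omega
  simp only [Finset.mem_insert, Finset.mem_singleton, not_or] at hr₂n
  obtain ⟨a₁, -, rfl⟩ := Finset.mem_image.mp hr₁
  obtain ⟨a₂, -, rfl⟩ := Finset.mem_image.mp hr₂
  obtain ⟨xs, hxs0, hxsq⟩ : ∃ x, f x ≠ 0 ∧ qf (f x) = false := by
    rcases Bool.eq_false_or_eq_true (qf (f a₁)) with e₁ | e₁
    swap; · exact ⟨a₁, hr₁0, e₁⟩
    rcases Bool.eq_false_or_eq_true (qf (f a₂)) with e₂ | e₂
    swap; · exact ⟨a₂, hr₂n.1, e₂⟩
    refine ⟨xr a₁ a₂, fun e => hr₂n.2 (xr_eq_zero.mp (hadd a₁ a₂ ▸ e)).symm, ?_⟩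
    rw [hadd, qf_xr, e₁, e₂, hperp _ a₂ (hfix a₁)]; rfl
  refine ⟨f xs, hxs0, hxsq, hfix xs, ⟨xs, rfl⟩, fun x hx => ?_⟩
  by_contra hcon
  push Not at hcon
  obtain ⟨hu0, hus⟩ := hcon
  have hxsP : bf xs (f xs) = false := by
    have e := h.1 xs
    rw [show app L xs = xr xs (f xs) from (xr_cancel xs _).symm, qf_xr, hxsq] at e
    revert e; cases qf xs <;> cases bf xs (f xs) <;> simp
  have hall : ∀ y, bf y (f xs) = false := by
    intro y
    have hy : f y = 0 ∨ f y = f xs ∨ f y = f x ∨ f y = xr (f xs) (f x) := by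
      by_contra hh
      push Not at hh
      have hsub : ({0, f xs, f x, xr (f xs) (f x), f y} : Finset V6) ⊆ im := by
        intro w hw
        simp only [Finset.mem_insert, Finset.mem_singleton] at hw
        rcases hw with rfl | rfl | rfl | rfl | rfl
        · exact Finset.mem_image.mpr ⟨0, Finset.mem_univ _, by show xr 0 (app L 0) = 0; rw [app_zero, xr_self]⟩
        all_goals first
          | exact Finset.mem_image_of_mem f (Finset.mem_univ _)
          | (rw [← hadd]; exact Finset.mem_image_of_mem f (Finset.mem_univ _))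
      have hcard : ({0, f xs, f x, xr (f xs) (f x), f y} : Finset V6).card = 5 := by
        have n1 : xr (f xs) (f x) ≠ 0 := fun e => hus (xr_eq_zero.mp e).symm
        have n2 : xr (f xs) (f x) ≠ f xs := fun e => hu0 (by
          have := congrArg (xr (f xs)) e; rwa [xr_cancel, xr_self] at this)
        have n3 : xr (f xs) (f x) ≠ f x := fun e => hxs0 (by
          have := congrArg (fun w => xr w (f x)) e
          simpa [xr_assoc, xr_self, xr_zero] using this)
        repeat' rw [Finset.card_insert_of_notMem]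
        · rw [Finset.card_singleton]
        all_goals simp only [Finset.mem_insert, Finset.mem_singleton, not_or]
        all_goals first
          | exact hh.2.2.2.symm
          | exact ⟨n3.symm, hh.2.2.1.symm⟩
          | exact ⟨Ne.symm hus, n2.symm, hh.2.1.symm⟩
          | exact ⟨hxs0.symm, Ne.symm hu0, n1.symm, hh.1.symm⟩
      have := Finset.card_le_card hsub
      omega
    have z : ∀ w, app L (xr y w) = xr y w → bf w (f xs) = false → bf y (f xs) = false := by
      intro w e1 e2
      have := hperp _ xs e1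
      rw [bf_xr_left, e2] at this
      simpa using this
    have mk : ∀ w, f y = f w → app L (xr y w) = xr y w := fun w e => by
      have : f (xr y w) = 0 := by rw [hadd, e, xr_self]
      exact (xr_eq_zero.mp this).symm
    rcases hy with e | e | e | e
    · exact hperp y xs (xr_eq_zero.mp e).symm
    · exact z xs (mk xs e) hxsP
    · exact z x (mk x e) hx
    · exact z (xr xs x) (mk _ (e.trans (hadd xs x).symm)) (by rw [bf_xr_left, hxsP, hx]; rfl)
  obtain ⟨b, hb⟩ := exists_bf _ hxs0
  rw [bf_comm] at hb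
  rw [hall b] at hb
  exact Bool.false_ne_true hb

end CfsgLib.SuzType
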