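import Cfsg.Agent.Lib.SuzType.Core
import Cfsg.Agent.Lib.Extraspecial.FStarSetting
import Cfsg.Agent.Lib.Extraspecial.OuterAut
import Cfsg.Agent.Lib.Classical.InvolutionOmegaStd
import Cfsg.Agent.Lib.Classical.SymmOrth

/-!
Coordinates on an extraspecial group of order `2^7` with quotient `Ω^-(6,2)` on top.
-/

set_option autoImplicit false

namespace CfsgLib.SuzType

open CfsgLib.Extraspecial Module

/-- The minus type selector. -/
def em : Fin 3 → ZMod 2 := Pi.single (Fin.last 2) 1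

/-- A coordinate bit. -/
def bit (b : Bool) : ZMod 2 := cond b 1 0

/-- Decoding. -/
def dec (v : V6) : Coord 3 := ![(bit (cb v 0), bit (cb v 1)), (bit (cb v 2), bit (cb v 3)),
  (bit (cb v 4), bit (cb v 5))]

/-- Encoding of a coordinate vector. -/
def encNat (w : Coord 3) : ℕ :=
  (w 0).1.val + 2 * (w 0).2.val + 4 * (w 1).1.val + 8 * (w 1).2.val + 16 * (w 2).1.val + 32 * (w 2).2.val

/-- Encoding. -/
def enc (w : Coord 3) : V6 := ⟨encNat w % 64, Nat.mod_lt _ (by norm_num)⟩

theorem enc_dec : ∀ v, enc (dec v) = v := by decide +kernel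

theorem dec_enc : ∀ w, dec (enc w) = w := by decide +kernel

theorem dec_xr : ∀ a b, dec (xr a b) = dec a + dec b := by decide +kernel

theorem dec_qf : ∀ v, sqForm em (dec v) = bit (qf v) := by decide +kernel

theorem dec_bf : ∀ a b, (bf a b = false ↔ cocycle em (dec a) (dec b) = cocycle em (dec b) (dec a)) := by
  decide +kernel

theorem enc_add (a b : Coord 3) : enc (a + b) = xr (enc a) (enc b) := by
  rw [← dec_enc a, ← dec_enc b, ← dec_xr, enc_dec, enc_dec, enc_dec]

theorem enc_inj {a b : Coord 3} (h : enc a = enc b) : a = b := by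
  rw [← dec_enc a, h, dec_enc]

theorem enc_zero : enc 0 = 0 := by decide

theorem id_app : ∀ v : V6, app ⟨1, 2, 4, 8, 16, 32⟩ v = v := by decide +kernel

/-- The matrix of a linear map of the coordinate space. -/
def linOf (φ : Coord 3 ≃ₗ[ZMod 2] Coord 3) : Lin :=
  ⟨enc (φ (dec 1)), enc (φ (dec 2)), enc (φ (dec 4)), enc (φ (dec 8)), enc (φ (dec 16)), enc (φ (dec 32))⟩

theorem app_linOf (φ : Coord 3 ≃ₗ[ZMod 2] Coord 3) (v : V6) : app (linOf φ) v = enc (φ (dec v)) := by
  let f : V6 → V6 := fun v => enc (φ (dec v))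
  have hadd : ∀ a b, f (xr a b) = xr (f a) (f b) := fun a b => by
    show enc (φ (dec (xr a b))) = _
    rw [dec_xr, map_add, enc_add]
  have h0 : f 0 = 0 := by
    show enc (φ (dec 0)) = 0
    rw [show dec 0 = 0 by decide, map_zero, enc_zero]
  have hsel : ∀ (b : Bool) (x : V6), f (sel b x) = sel b (f x) := fun b x => by
    cases b
    · exact h0
    · rfl
  show _ = f v
  conv_rhs => rw [← id_app v]
  simp only [app, hadd, hsel]
  rfl

theorem bit_false {b : Bool} : bit b = 0 ↔ b = false := by cases b <;> simp [bit]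

theorem iso_linOf {φ : Coord 3 ≃ₗ[ZMod 2] Coord 3} (h : φ ∈ isoGrp em) : Iso (linOf φ) := by
  intro v
  have e : sqForm em (φ (dec v)) = sqForm em (dec v) := h (dec v)
  rw [← dec_enc (φ (dec v)), ← app_linOf, dec_qf, dec_qf] at e
  revert e
  cases qf (app (linOf φ) v) <;> cases qf v <;> simp [bit]

theorem app_inj {L : Lin} (h : Iso L) {a b : V6} (e : app L a = app L b) : a = b := by
  by_contra hab
  obtain ⟨r, hr⟩ := exists_bf (xr a b) (fun e' => hab (xr_eq_zero.mp e'))
  rw [← Iso.bf_eq h, app_xr, e, xr_self, bf_zero_left] at hr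
  exact Bool.false_ne_true hr

theorem exists_equiv_of_iso {L : Lin} (h : Iso L) : ∃ φ ∈ isoGrp em, ∀ v, app L v = enc (φ (dec v)) := by
  let f : Coord 3 →+ Coord 3 := AddMonoidHom.mk' (fun w => dec (app L (enc w)))
    (fun a b => by rw [enc_add, app_xr, dec_xr])
  have hinj : Function.Injective (f.toZModLinearMap 2) := fun a b e => by
    have e' : dec (app L (enc a)) = dec (app L (enc b)) := e
    have := congrArg enc e'
    rw [enc_dec, enc_dec] at this
    exact enc_inj (app_inj h this)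
  refine ⟨LinearEquiv.ofInjectiveEndo (f.toZModLinearMap 2) hinj, fun w => ?_, fun v => ?_⟩
  · show sqForm em (dec (app L (enc w))) = _
    rw [dec_qf, h, ← dec_qf, dec_enc]
  · show app L v = enc (dec (app L (enc (dec v))))
    rw [enc_dec, enc_dec]

/-- Coordinates as functions. -/
def toFun6 : Coord 3 ≃ₗ[ZMod 2] ((Fin 2 ⊕ Fin 2) ⊕ Fin 2 → ZMod 2) where
  toFun w := Sum.elim (Sum.elim ![(w 0).1, (w 1).1] ![(w 0).2, (w 1).2]) ![(w 2).1, (w 2).2]
  invFun u := ![(u (.inl (.inl 0)), u (.inl (.inr 0))), (u (.inl (.inl 1)), u (.inl (.inr 1))),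
    (u (.inr 0), u (.inr 1))]
  map_add' a b := by funext i; rcases i with (i | i) | i <;> fin_cases i <;> rfl
  map_smul' c a := by funext i; rcases i with (i | i) | i <;> fin_cases i <;> rfl
  left_inv w := by funext i; fin_cases i <;> rfl
  right_inv u := by funext i; rcases i with (i | i) | i <;> fin_cases i <;> rfl

theorem toFun6_form : ∀ w, Cfsg.quadFormMinus 2 (ZMod 2) 1 1 (toFun6 w) = sqForm em w := by
  intro w
  have h : ∀ v : V6, Cfsg.quadFormMinus 2 (ZMod 2) 1 1 (toFun6 (dec v)) = sqForm em (dec v) := by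
    unfold Cfsg.quadFormMinus
    decide +kernel
  rw [← dec_enc w]; exact h _

theorem aniso : ∀ z₁ z₂ : ZMod 2, z₁ ^ 2 + 1 * z₁ * z₂ + 1 * z₂ ^ 2 = 0 → z₁ = 0 ∧ z₂ = 0 := by decide

/-- The parity test of the image. -/
theorem index_two_eq (R : Subgroup (isoGrp em)) (hR : R.index = 2) (φ : isoGrp em) :
    φ ∈ R ↔ nfix (linOf φ.1) = 1 ∨ nfix (linOf φ.1) = 4 ∨ nfix (linOf φ.1) = 16 ∨ nfix (linOf φ.1) = 64 := by
  obtain ⟨B, hB, hBn⟩ := CfsgLib.Orth.exists_quadForm_minus (F := ZMod 2) 2 aniso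
  have hΩ := CfsgLib.Classical.InvolutionOmegaStd.omega_minus_eq_ker hB aniso hBn
  let Φ : isoGrp em ≃* CfsgLib.Orth.Grp B :=
    isoGrpEquiv em ⇑B toFun6 (fun w => by rw [hB]; exact toFun6_form w)
  have hΦ : ∀ (ψ : isoGrp em) (u : (Fin 2 ⊕ Fin 2) ⊕ Fin 2 → ZMod 2),
      CfsgLib.Orth.ap (Φ ψ) u = toFun6 (ψ.1 (toFun6.symm u)) := by
    intro ψ u
    show (LinearMap.toMatrix' _).mulVec u = _
    rw [← Matrix.toLin'_apply, Matrix.toLin'_toMatrix']
    rfl
  have hcl : commutator (isoGrp em) ≤ R := by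
    rw [commutator_def, Subgroup.commutator_le]
    intro a _ b _
    rw [commutatorElement_def, Subgroup.mul_mem_iff_of_index_two hR, Subgroup.mul_mem_iff_of_index_two hR,
      Subgroup.mul_mem_iff_of_index_two hR, inv_mem_iff, inv_mem_iff]
    tauto
  obtain ⟨v, hv⟩ := CfsgLib.Orth.exists_aniso hBn (by simp)
  obtain ⟨r, hr⟩ := CfsgLib.Orth.exists_refl hBn hv
  have hker : (CfsgLib.Orth.dickson hBn).ker.index = 2 := by
    have hsurj : Function.Surjective (CfsgLib.Orth.dickson hBn) := fun w => by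
      rcases Int.units_eq_one_or w with rfl | rfl
      · exact ⟨1, map_one _⟩
      · exact ⟨r, CfsgLib.Orth.dickson_refl hBn hr⟩
    rw [Subgroup.index_ker, MonoidHom.range_eq_top.2 hsurj, Subgroup.card_top, Nat.card_eq_fintype_card]
    rfl
  have hRk : R.map Φ.toMonoidHom = (CfsgLib.Orth.dickson hBn).ker := by
    have hle : (CfsgLib.Orth.dickson hBn).ker ≤ R.map Φ.toMonoidHom := by
      rw [← hΩ]
      have h1 : (commutator (isoGrp em)).map Φ.toMonoidHom = Cfsg.Omega (ZMod 2) ⇑B := by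
        rw [commutator_def, Subgroup.map_commutator, Subgroup.map_top_of_surjective Φ.toMonoidHom Φ.surjective]
        rfl
      rw [← h1]
      exact Subgroup.map_mono hcl
    refine (le_antisymm hle ?_).symm
    have hi : (R.map Φ.toMonoidHom).index = 2 := by
      rw [Subgroup.index_map_of_bijective Φ.bijective, hR]
    have := Subgroup.relIndex_mul_index hle
    rw [hker, hi] at this
    exact Subgroup.relIndex_eq_one.1 (by omega)
  set k := finrank (ZMod 2) (CfsgLib.Orth.fixSpace (Φ φ)) with hk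
  have hdk : φ ∈ R ↔ Even (6 + k) := by
    have h1 : φ ∈ R ↔ Φ φ ∈ R.map Φ.toMonoidHom :=
      (Subgroup.mem_map_iff_mem Φ.injective).symm
    rw [h1, hRk, MonoidHom.mem_ker]
    show (-1 : ℤˣ) ^ (finrank (ZMod 2) ((Fin 2 ⊕ Fin 2) ⊕ Fin 2 → ZMod 2) + k) = 1 ↔ _
    rw [show finrank (ZMod 2) ((Fin 2 ⊕ Fin 2) ⊕ Fin 2 → ZMod 2) = 6 by simp]
    rcases Nat.even_or_odd (6 + k) with h | h
    · exact iff_of_true h.neg_one_pow h
    · exact iff_of_false (by rw [h.neg_one_pow]; decide) (Nat.not_even_iff_odd.mpr h)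
  have hn : nfix (linOf φ.1) = 2 ^ k := by
    have h1 : Nat.card (CfsgLib.Orth.fixSpace (Φ φ)) = 2 ^ k := by
      rw [Module.natCard_eq_pow_finrank (K := ZMod 2), Nat.card_zmod]
    rw [← h1]
    let e : {v : V6 // app (linOf φ.1) v = v} ≃ ↥(CfsgLib.Orth.fixSpace (Φ φ)) :=
      { toFun := fun v => ⟨toFun6 (dec v.1), by
          rw [CfsgLib.Orth.mem_fixSpace, hΦ, toFun6.symm_apply_apply]
          have := congrArg dec v.2
          rw [app_linOf, dec_enc] at this
          rw [this]⟩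
        invFun := fun u => ⟨enc (toFun6.symm u.1), by
          rw [app_linOf, dec_enc]
          have := CfsgLib.Orth.mem_fixSpace.1 u.2
          rw [hΦ] at this
          congr 1
          exact toFun6.injective (this.trans (toFun6.apply_symm_apply _).symm)⟩
        left_inv := fun v => Subtype.ext (by
          show enc (toFun6.symm (toFun6 (dec v.1))) = v.1
          rw [toFun6.symm_apply_apply, enc_dec])
        right_inv := fun u => Subtype.ext (by
          show toFun6 (dec (enc (toFun6.symm u.1))) = u.1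
          rw [dec_enc, toFun6.apply_symm_apply]) }
    rw [← Nat.card_congr e, Nat.card_eq_fintype_card, Fintype.card_subtype]
    rfl
  have hk6 : k ≤ 6 := by
    have := Submodule.finrank_le (CfsgLib.Orth.fixSpace (Φ φ))
    rw [show finrank (ZMod 2) ((Fin 2 ⊕ Fin 2) ⊕ Fin 2 → ZMod 2) = 6 by simp] at this
    exact this
  rw [hdk, hn]
  interval_cases k <;> simp +decide [Nat.even_iff]

theorem card_iso : Nat.card (isoGrp em) = 51840 := by
  obtain ⟨B, hB, hBn⟩ := CfsgLib.Orth.exists_quadForm_minus (F := ZMod 2) 2 aniso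
  have h := CfsgLib.Orth.card_orth_minus 3 (by norm_num) (a := 1) (b := 1) aniso hB hBn
  rw [Nat.card_congr (isoGrpEquiv em ⇑B toFun6 (fun w => by rw [hB]; exact toFun6_form w)).toEquiv]
  rw [Nat.card_zmod] at h
  exact h.trans (by decide)

theorem card_omega : Nat.card (Cfsg.Omega (ZMod 2) (Cfsg.quadFormMinus 2 (ZMod 2) 1 1)) = 25920 := by
  obtain ⟨B, hB, hBn⟩ := CfsgLib.Orth.exists_quadForm_minus (F := ZMod 2) 2 aniso
  have hΩ := CfsgLib.Classical.InvolutionOmegaStd.omega_minus_eq_ker hB aniso hBn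
  obtain ⟨v, hv⟩ := CfsgLib.Orth.exists_aniso hBn (by simp)
  obtain ⟨r, hr⟩ := CfsgLib.Orth.exists_refl hBn hv
  have hker : (CfsgLib.Orth.dickson hBn).ker.index = 2 := by
    have hsurj : Function.Surjective (CfsgLib.Orth.dickson hBn) := fun w => by
      rcases Int.units_eq_one_or w with rfl | rfl
      · exact ⟨1, map_one _⟩
      · exact ⟨r, CfsgLib.Orth.dickson_refl hBn hr⟩
    rw [Subgroup.index_ker, MonoidHom.range_eq_top.2 hsurj, Subgroup.card_top, Nat.card_eq_fintype_card]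
    rfl
  have h := CfsgLib.Orth.card_orth_minus 3 (by norm_num) (a := 1) (b := 1) aniso hB hBn
  have h2 := (CfsgLib.Orth.dickson hBn).ker.card_mul_index
  have h3 : Nat.card (CfsgLib.Orth.Grp B) = 51840 := by
    refine h.trans ?_
    rw [Nat.card_zmod]
    decide
  rw [← hB, hΩ]
  rw [hker] at h2
  replace h2 := h2.trans h3
  exact Nat.eq_of_mul_eq_mul_right two_pos (h2.trans (by norm_num))

variable {G : Type*} [Group G] [Finite G]

section action

variable {C : Type*} [Group C] (Q : Subgroup C) [Q.Normal] {n : ℕ} {e : Fin n → ZMod 2} (ψ : ↥Q ≃* Model e)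

/-- The action on the Frattini quotient. -/
def actHom : C →* isoGrp e :=
  Model.autHom.comp ((MulAut.congr ψ).toMonoidHom.comp MulAut.conjNormal)

theorem actHom_apply (c : C) (x : Q) :
    (actHom Q ψ c).1 (ψ x).v = (ψ ⟨c * x * c⁻¹, Subgroup.Normal.conj_mem inferInstance _ x.2 c⟩).v := by
  have h : (MulAut.congr ψ (MulAut.conjNormal c)) (ψ x) =
      ψ ⟨c * x * c⁻¹, Subgroup.Normal.conj_mem inferInstance _ x.2 c⟩ := by
    show ψ (MulAut.conjNormal c (ψ.symm (ψ x))) = _
    rw [ψ.symm_apply_apply]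
    congr 1
  rw [← h]
  exact (Model.aut_v _ _).symm

theorem actHom_ker (hc : ∀ c : C, (∀ x ∈ Q, c * x = x * c) → c ∈ Q) : (actHom Q ψ).ker = Q := by
  ext c
  constructor
  · intro h
    have h' : MulAut.congr ψ (MulAut.conjNormal c) ∈ (Model.autHom : MulAut (Model e) →* isoGrp e).ker := h
    rw [Model.ker_autHom] at h'
    obtain ⟨m, hm⟩ := h'
    set q := ψ.symm m with hq
    have hcomm : ∀ x ∈ Q, (q : C)⁻¹ * c * x = x * ((q : C)⁻¹ * c) := by
      intro x hx
      have h1 := DFunLike.congr_fun hm (ψ ⟨x, hx⟩)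
      rw [MulAut.conj_apply] at h1
      change m * ψ ⟨x, hx⟩ * m⁻¹ = ψ (MulAut.conjNormal c (ψ.symm (ψ ⟨x, hx⟩))) at h1
      rw [ψ.symm_apply_apply] at h1
      have h2 := congrArg (fun y => ((ψ.symm y : Q) : C)) h1
      simp only [map_mul, map_inv, ψ.symm_apply_apply, Subgroup.coe_mul, Subgroup.coe_inv,
        MulAut.conjNormal_apply, ← hq] at h2
      calc (q : C)⁻¹ * c * x = (q : C)⁻¹ * (c * x * c⁻¹) * c := by group
        _ = (q : C)⁻¹ * ((q : C) * x * (q : C)⁻¹) * c := by rw [← h2]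
        _ = _ := by group
    have h3 := mul_mem q.2 (hc _ hcomm)
    rwa [mul_inv_cancel_left] at h3
  · intro h
    refine Subtype.ext (LinearEquiv.ext fun w => ?_)
    obtain ⟨x, hx⟩ := ψ.surjective ⟨w, 0⟩
    have hxw : (ψ x).v = w := by rw [hx]
    show (actHom Q ψ c).1 w = w
    rw [← hxw, actHom_apply]
    rw [show (⟨c * x * c⁻¹, Subgroup.Normal.conj_mem inferInstance _ x.2 c⟩ : Q) = ⟨c, h⟩ * x * (⟨c, h⟩)⁻¹ from rfl,
      map_mul, map_mul, map_inv, Model.conj_apply]

theorem actHom_card (hc : ∀ c : C, (∀ x ∈ Q, c * x = x * c) → c ∈ Q) :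
    Nat.card (actHom Q ψ).range = Nat.card (C ⧸ Q) := by
  rw [Nat.card_congr (QuotientGroup.quotientKerEquivRange (actHom Q ψ)).symm.toEquiv]
  exact Nat.card_congr (QuotientGroup.quotientMulEquivOfEq (actHom_ker Q ψ hc)).toEquiv

end action

theorem exists_co (z : G) (hz : orderOf z = 2) (Q : Subgroup (Subgroup.centralizer ({z} : Set G))) [Q.Normal]
    (hF : Cfsg.generalizedFittingSubgroup (Subgroup.centralizer ({z} : Set G)) = Q)
    (hQ : Cfsg.IsExtraspecial 2 Q) (hcard : Nat.card Q = 2 ^ 7)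
    (e : (Subgroup.centralizer ({z} : Set G)) ⧸ Q ≃* Cfsg.Omega (ZMod 2) (Cfsg.quadFormMinus 2 (ZMod 2) 1 1))
    (hnwc : ∃ g : G, (∃ hq : g * z * g⁻¹ ∈ Subgroup.centralizer ({z} : Set G),
      (⟨g * z * g⁻¹, hq⟩ : Subgroup.centralizer ({z} : Set G)) ∈ Q) ∧ g * z * g⁻¹ ≠ z) :
    ∃ v : G → V6, Co z (Q.map (Subgroup.centralizer ({z} : Set G)).subtype) v := by
  classical
  haveI : Fact (Nat.Prime 2) := ⟨Nat.prime_two⟩
  set R := Q.map (Subgroup.centralizer ({z} : Set G)).subtype with hRdef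
  let E : ↥Q ≃* ↥R := Q.equivMapOfInjective (Subgroup.centralizer ({z} : Set G)).subtype (Subgroup.centralizer ({z} : Set G)).subtype_injective
  have hst : Setting R z :=
    Setting.of_fStar hz R (by rw [hF]) (isExtraspecial_congr E hQ)
  have hmem : ∀ {x : G}, x ∈ R ↔ ∃ hx : x ∈ (Subgroup.centralizer ({z} : Set G)), (⟨x, hx⟩ : ↥(Subgroup.centralizer ({z} : Set G))) ∈ Q := by
    intro x
    constructor
    · rintro ⟨y, hy, rfl⟩; exact ⟨y.2, hy⟩
    · rintro ⟨hx, h⟩; exact ⟨⟨x, hx⟩, h, rfl⟩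
  have hcent : ∀ c : ↥(Subgroup.centralizer ({z} : Set G)), (∀ x ∈ Q, c * x = x * c) → c ∈ Q := by
    intro c hc
    have h1 : (c : G) ∈ Subgroup.centralizer (R : Set G) := by
      rw [Subgroup.mem_centralizer_iff]
      rintro _ ⟨x, hx, rfl⟩
      exact congrArg Subtype.val (hc x hx).symm
    rw [hst.cQ] at h1
    obtain ⟨hx, hxQ⟩ := hmem.mp (Subgroup.zpowers_le.mpr hst.z_mem h1)
    exact hxQ
  have hindex : Nat.card (↥(Subgroup.centralizer ({z} : Set G)) ⧸ Q) = 25920 := (Nat.card_congr e.toEquiv).trans card_omega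
  have hnA : ¬ ∃ A : Subgroup ↥Q, Cfsg.IsElementaryAbelian 2 A ∧ Nat.card ↥A = 2 ^ (3 + 1) := by
    intro h
    obtain ⟨ψ⟩ := equiv_model (0 : Fin 3 → ZMod 2) hQ (by norm_num) hcard true (iff_of_true rfl h)
      (by rw [prod_zero, if_pos rfl])
    have h1 := Subgroup.card_subgroup_dvd_card (actHom Q ψ).range
    rw [actHom_card Q ψ hcent, hindex] at h1
    let L : Coord 3 ≃ₗ[ZMod 2] (Fin 3 ⊕ Fin 3 → ZMod 2) :=
      { toFun := fun v => Sum.elim (fun i => (v i).1) (fun i => (v i).2)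
        invFun := fun u i => (u (.inl i), u (.inr i))
        map_add' := fun v w => by funext i; rcases i with i | i <;> rfl
        map_smul' := fun c v => by funext i; rcases i with i | i <;> rfl
        left_inv := fun v => rfl
        right_inv := fun u => by funext i; rcases i with i | i <;> rfl }
    obtain ⟨p8⟩ := CfsgLib.Classical.SymmOrth.plus_six
    rw [Nat.card_congr ((isoGrpEquiv (0 : Fin 3 → ZMod 2) _ L fun v => by
      show ∑ i, (v i).1 * (v i).2 = _
      simp [sqForm, cocycle, planeForm]).trans p8).toEquiv, Nat.card_perm, Nat.card_fin] at h1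
    revert h1; decide
  obtain ⟨ψ⟩ := equiv_model em hQ (by norm_num) hcard false (iff_of_false Bool.false_ne_true hnA)
    (by rw [em, prod_last]; simp)
  let π := actHom Q ψ
  have hπ : π.range.index = 2 := by
    have h1 := π.range.card_mul_index
    rw [actHom_card Q ψ hcent, hindex, card_iso] at h1
    omega
  let v : G → V6 := fun x => if h : x ∈ R then enc (ψ (E.symm ⟨x, h⟩)).v else 0
  have hv : ∀ {x : G} (h : x ∈ R), v x = enc (ψ (E.symm ⟨x, h⟩)).v := fun h => dif_pos h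
  have hE : ∀ q : Q, ((E q : R) : G) = ((q : ↥(Subgroup.centralizer ({z} : Set G))) : G) := fun q => rfl
  have hvE : ∀ q : Q, v ((q : ↥(Subgroup.centralizer ({z} : Set G))) : G) = enc (ψ q).v := fun q => by
    have := hv (E q).2
    rwa [Subtype.coe_eta, E.symm_apply_apply, hE] at this
  have hex : ∀ {x : G}, x ∈ R → ∃ q : Q, ((q : ↥(Subgroup.centralizer ({z} : Set G))) : G) = x := fun {x} hx => by
    obtain ⟨hxC, h⟩ := hmem.mp hx
    exact ⟨⟨⟨x, hxC⟩, h⟩, rfl⟩
  have hR : ∀ q : Q, ((q : ↥(Subgroup.centralizer ({z} : Set G))) : G) ∈ R := fun q => hmem.mpr ⟨q.1.2, q.2⟩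
  have hact : ∀ (c : ↥(Subgroup.centralizer ({z} : Set G))) (q : Q), v ((c : G) * ((q : ↥(Subgroup.centralizer ({z} : Set G))) : G) * (c : G)⁻¹) =
      app (linOf (π c).1) (v ((q : ↥(Subgroup.centralizer ({z} : Set G))) : G)) := by
    intro c q
    rw [app_linOf, hvE, dec_enc,
      show (c : G) * ((q : ↥(Subgroup.centralizer ({z} : Set G))) : G) * (c : G)⁻¹ =
        (((⟨c * q * c⁻¹, Subgroup.Normal.conj_mem inferInstance _ q.2 c⟩ : Q) : ↥(Subgroup.centralizer ({z} : Set G))) : G) from rfl,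
      hvE, actHom_apply]
  have hC : ∀ {c : G}, c * z = z * c → c ∈ (Subgroup.centralizer ({z} : Set G)) := fun h => Subgroup.mem_centralizer_singleton_iff.mpr h
  refine ⟨v, hst, ?_, ?_, ?_, ?_, ?_, ?_, ?_, ?_, ?_, ?_⟩
  · rw [← Nat.card_congr E.toEquiv, hcard]; norm_num
  · intro a ha b hb
    obtain ⟨p, rfl⟩ := hex ha
    obtain ⟨q, rfl⟩ := hex hb
    rw [show ((p : ↥(Subgroup.centralizer ({z} : Set G))) : G) * ((q : ↥(Subgroup.centralizer ({z} : Set G))) : G) = (((p * q : Q) : ↥(Subgroup.centralizer ({z} : Set G))) : G) from rfl, hvE, hvE, hvE, map_mul,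
      Model.mul_v, enc_add]
  · intro a ha
    obtain ⟨p, rfl⟩ := hex ha
    rw [hvE]
    constructor
    · intro h
      have h1 : (ψ p).v = 0 := enc_inj (h.trans enc_zero.symm)
      rw [← Model.mem_center_iff] at h1
      refine hst.eq_of_forall (hR p) fun q hq => ?_
      obtain ⟨r, rfl⟩ := hex hq
      have := Subgroup.mem_center_iff.mp h1 (ψ r)
      rw [← map_mul, ← map_mul] at this
      exact congrArg (fun w : Q => ((w : ↥(Subgroup.centralizer ({z} : Set G))) : G)) (ψ.injective this)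
    · intro h
      have h1 : ψ p ∈ Subgroup.center (Model em) := by
        rw [Subgroup.mem_center_iff]
        intro m
        obtain ⟨r, rfl⟩ := ψ.surjective m
        rw [← map_mul, ← map_mul]
        congr 1
        refine Subtype.ext (Subtype.ext ?_)
        show ((r : ↥(Subgroup.centralizer ({z} : Set G))) : G) * ((p : ↥(Subgroup.centralizer ({z} : Set G))) : G) = ((p : ↥(Subgroup.centralizer ({z} : Set G))) : G) * ((r : ↥(Subgroup.centralizer ({z} : Set G))) : G)
        rcases h with h | h <;> rw [h]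
        · rw [mul_one, one_mul]
        · exact hst.z_comm (hR r)
      rw [(Model.mem_center_iff _).mp h1, enc_zero]
  · intro a ha
    obtain ⟨p, rfl⟩ := hex ha
    have h1 : qf (enc (ψ p).v) = false ↔ sqForm em (ψ p).v = 0 := by
      conv_rhs => rw [← dec_enc (ψ p).v, dec_qf, bit_false]
    rw [hvE, h1, show (((p : ↥(Subgroup.centralizer ({z} : Set G))) : G) * ((p : ↥(Subgroup.centralizer ({z} : Set G))) : G) = 1 ↔ p * p = 1) from
        ⟨fun h => Subtype.ext (Subtype.ext h), fun h => congrArg (fun w : Q => ((w : ↥(Subgroup.centralizer ({z} : Set G))) : G)) h⟩,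
      ← map_eq_one_iff ψ ψ.injective, map_mul, ← pow_two, Model.sq_mem]
    exact ⟨fun h => Model.ext rfl h, fun h => congrArg Model.a h⟩
  · intro a ha b hb
    obtain ⟨p, rfl⟩ := hex ha
    obtain ⟨q, rfl⟩ := hex hb
    rw [hvE, hvE, dec_bf, dec_enc, dec_enc, ← Model.comm_iff, ← map_mul, ← map_mul, ψ.injective.eq_iff]
    exact ⟨fun h => congrArg (fun w : Q => ((w : ↥(Subgroup.centralizer ({z} : Set G))) : G)) h, fun h => Subtype.ext (Subtype.ext h)⟩
  · intro w
    obtain ⟨p, hp⟩ := ψ.surjective ⟨dec w, 0⟩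
    exact ⟨_, hR p, by rw [hvE, hp, enc_dec]⟩
  · intro L hL
    obtain ⟨φ, hφ, hφL⟩ := exists_equiv_of_iso hL.1
    have hlin : ∀ w, app (linOf φ) w = app L w := fun w => (app_linOf φ w).trans (hφL w).symm
    have hn : nfix (linOf φ) = nfix L := by simp only [nfix, hlin]
    obtain ⟨c, hc⟩ := (index_two_eq π.range hπ ⟨φ, hφ⟩).mpr (hn ▸ hL.2)
    refine ⟨c, Subgroup.mem_centralizer_singleton_iff.mp c.2, fun a ha => ?_⟩
    obtain ⟨q, rfl⟩ := hex ha
    rw [hact, hc, hlin]
  · intro c hc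
    refine ⟨linOf (π ⟨c, hC hc⟩).1,
      ⟨iso_linOf (π ⟨c, hC hc⟩).2, (index_two_eq π.range hπ _).mp ⟨_, rfl⟩⟩, fun a ha => ?_⟩
    obtain ⟨q, rfl⟩ := hex ha
    exact hact ⟨c, hC hc⟩ q
  · intro c hc h
    have h1 : (⟨c, hC hc⟩ : ↥(Subgroup.centralizer ({z} : Set G))) ∈ (actHom Q ψ).ker := by
      refine Subtype.ext (LinearEquiv.ext fun w => ?_)
      obtain ⟨q, hq⟩ := ψ.surjective ⟨w, 0⟩
      show (π ⟨c, hC hc⟩).1 w = w
      have h2 := (hact ⟨c, hC hc⟩ q).symm.trans (h _ (hR q))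
      rw [app_linOf, hvE, dec_enc] at h2
      have h3 := enc_inj h2
      rwa [show (ψ q).v = w by rw [hq]] at h3
    rw [actHom_ker Q ψ hcent] at h1
    exact hmem.mpr ⟨_, h1⟩
  · obtain ⟨g, ⟨hq, hqQ⟩, hne⟩ := hnwc
    exact ⟨g, hmem.mpr ⟨hq, hqQ⟩, hne⟩

end CfsgLib.SuzType
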