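import Cfsg.Agent.Lib.SuzType.Main
import Cfsg.Agent.Lib.SuzType.Build
import Cfsg.Agent.Lib.Extraspecial.LargePair
import Cfsg.Agent.Lib.Classical.OrthSimple
import Cfsg.Agent.Lib.Classical.OrthCenter

/-!
A group with an involution centraliser `2^(1+6)_- . Ω^-(6,2)`, the involution not weakly closed, is simple.
-/

set_option autoImplicit false
set_option linter.style.haveILetI false

namespace CfsgLib.SuzType

open CfsgLib.Extraspecial

theorem omega_simple : IsSimpleGroup (Cfsg.Omega (ZMod 2) (Cfsg.quadFormMinus 2 (ZMod 2) 1 1)) := by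
  obtain ⟨B, hB, hBn⟩ := CfsgLib.Orth.exists_quadForm_minus (F := ZMod 2) 2 aniso
  have h5 : 5 ≤ Module.finrank (ZMod 2) ((Fin 2 ⊕ Fin 2) ⊕ Fin 2 → ZMod 2) := by simp
  have hs := CfsgLib.Orth.pOmega_simple hBn h5
  have hc := (CfsgLib.Orth.card_center_omega hBn h5).1 fun g _ hg => by
    refine Subtype.ext (Units.ext ?_)
    rw [hg]
    ext i j
    exact CharTwo.neg_eq _
  rw [hB] at hs hc
  haveI := hs
  refine MulEquiv.isSimpleGroup (H := Cfsg.POmega (ZMod 2) (Cfsg.quadFormMinus 2 (ZMod 2) 1 1))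
    (((QuotientGroup.quotientMulEquivOfEq (Subgroup.card_eq_one.mp hc)).trans QuotientGroup.quotientBot)).symm

theorem two_singular : ∀ w : V6, ∃ a b : V6, qf a = false ∧ qf b = false ∧ w = xr a b := by decide +kernel

variable {G : Type*} [Group G] [Finite G]

theorem isSimpleGroup_of_hyp (z : G) (hz : orderOf z = 2) (Q : Subgroup (Subgroup.centralizer ({z} : Set G)))
    [Q.Normal] (hF : Cfsg.generalizedFittingSubgroup (Subgroup.centralizer ({z} : Set G)) = Q)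
    (hQ : Cfsg.IsExtraspecial 2 Q) (hcard : Nat.card Q = 2 ^ 7)
    (e : (Subgroup.centralizer ({z} : Set G)) ⧸ Q ≃* Cfsg.Omega (ZMod 2) (Cfsg.quadFormMinus 2 (ZMod 2) 1 1))
    (hnwc : ∃ g : G, (∃ hq : g * z * g⁻¹ ∈ Subgroup.centralizer ({z} : Set G),
      (⟨g * z * g⁻¹, hq⟩ : Subgroup.centralizer ({z} : Set G)) ∈ Q) ∧ g * z * g⁻¹ ≠ z) :
    IsSimpleGroup G ∧ ¬ IsMulCommutative G := by
  classical
  obtain ⟨g, ⟨hgC, hgQ⟩, hgne⟩ := hnwc
  obtain ⟨v, H⟩ := exists_co z hz Q hF hQ hcard e ⟨g, ⟨hgC, hgQ⟩, hgne⟩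
  set R := Q.map (Subgroup.centralizer ({z} : Set G)).subtype with hR
  haveI : Nontrivial G := ⟨⟨z, 1, H.st.ne_one⟩⟩
  refine ⟨⟨fun N hN => ?_⟩, fun hc => hgne ?_⟩
  swap
  · rw [hc.is_comm.comm g z, mul_inv_cancel_right]
  refine or_iff_not_imp_left.mpr fun hbot => ?_
  haveI := hN
  obtain ⟨g₀, u₀, t, F, ht⟩ := H.exists_odd1
  have hzN : z ∈ N := H.st.z_mem_normal F.pr.odd_eq_bot N hbot
  have hz'N : g₀ * z * g₀⁻¹ ∈ N := hN.conj_mem z hzN g₀
  have hone : ∀ a ∈ R, qf (v a) = false → a ∈ N := by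
    intro a ha hqa
    have ha2 := (H.sq a ha).mp hqa
    by_cases h1 : a = 1
    · exact h1 ▸ one_mem _
    by_cases h2 : a = z
    · exact h2 ▸ hzN
    obtain ⟨c, -, hca⟩ := H.trans F.pr.mem F.pr.s'.zz F.pr.ne_one' F.pr.ne ha ha2 h1 h2
    exact hca ▸ hN.conj_mem _ hz'N c
  have hRN : R ≤ N := by
    intro a ha
    obtain ⟨p, q, hp, hq, hpq⟩ := two_singular (v a)
    obtain ⟨x, hx, rfl⟩ := H.surj p
    obtain ⟨y, hy, rfl⟩ := H.surj q
    rw [← H.mul x hx y hy] at hpq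
    rcases H.eq_or ha (mul_mem hx hy) hpq with h | h
    · exact h ▸ mul_mem (hone x hx hp) (hone y hy hq)
    · exact h ▸ mul_mem hzN (mul_mem (hone x hx hp) (hone y hy hq))
  have htR : t ∉ R := F.odd1_not_mem ht
  have htz := (F.odd1_commute ht).1
  have htN : t ∈ N := by
    obtain ⟨x, hx, y, hy, rfl, -⟩ := ht
    refine mul_mem (hRN (F.mem_P.mp hx).1) ?_
    obtain ⟨q, hq, rfl⟩ := (F.mem_P'.mp hy).1
    exact hN.conj_mem q (hRN hq) g₀
  let C := Subgroup.centralizer ({z} : Set G)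
  let π : C →* Cfsg.Omega (ZMod 2) (Cfsg.quadFormMinus 2 (ZMod 2) 1 1) :=
    e.toMonoidHom.comp (QuotientGroup.mk' Q)
  have hsurj : Function.Surjective π := e.surjective.comp (QuotientGroup.mk'_surjective Q)
  have hker : ∀ c : C, π c = 1 → c ∈ Q := fun c h =>
    (QuotientGroup.eq_one_iff c).mp (e.injective (h.trans (map_one e).symm))
  have htC : t ∈ C := Subgroup.mem_centralizer_singleton_iff.mpr htz
  have hQN : Q ≤ N.subgroupOf C := fun c hc => hRN ⟨c, hc, rfl⟩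
  haveI := omega_simple
  have himg : (N.subgroupOf C).map π = ⊤ := by
    refine (Subgroup.Normal.eq_bot_or_eq_top (Subgroup.Normal.map inferInstance π hsurj)).resolve_left fun h => ?_
    have h1 : π ⟨t, htC⟩ ∈ (N.subgroupOf C).map π := ⟨⟨t, htC⟩, htN, rfl⟩
    rw [h, Subgroup.mem_bot] at h1
    exact htR ⟨⟨t, htC⟩, hker _ h1, rfl⟩
  refine H.st.eq_top_of_centralizer_le N fun c hc => ?_
  obtain ⟨n, hn, hnc⟩ := himg.ge (Subgroup.mem_top (π ⟨c, hc⟩))
  have h1 : n⁻¹ * ⟨c, hc⟩ ∈ Q := hker _ (by rw [map_mul, map_inv, hnc, inv_mul_cancel])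
  have h2 := mul_mem hn (hQN h1)
  rwa [mul_inv_cancel_left] at h2

end CfsgLib.SuzType
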