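import Cfsg.Agent.Lib.SuzType.Comm

/-!
The two classes of involutions.
-/

set_option autoImplicit false

namespace CfsgLib.SuzType

open CfsgLib.Extraspecial CfsgLib.Extraspecial.Pair

variable {G : Type*} [Group G] [Finite G]

/-- An involution of the second kind relative to a pair. -/
def Odd1 (z : G) (Q : Subgroup G) (v : G → V6) (g t : G) : Prop :=
  ∃ x ∈ P Q z g, ∃ y ∈ P' Q z g, t = x * y ∧ t * t = 1 ∧ qf (v x) = true

theorem mul_self_eq {x y k : G} (h : x * y = k * (y * x)) (hky : Commute k y) :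
    x * y * (x * y) = k⁻¹ * (x * x) * (y * y) ∨ ¬ Commute k x := by
  by_cases hkx : Commute k x
  · left
    have h2 : y * x = k⁻¹ * (x * y) := by rw [h, inv_mul_cancel_left]
    calc x * y * (x * y) = x * (y * x) * y := by group
      _ = x * k⁻¹ * (x * y) * y := by rw [h2]; group
      _ = k⁻¹ * x * (x * y) * y := by rw [hkx.inv_left.eq]
      _ = _ := by group
  · exact Or.inr hkx

namespace Fr

variable {z : G} {Q : Subgroup G} {v : G → V6} {g u : G} (F : Fr z Q v g u)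
include F

local notation "z'" => g * z * g⁻¹
local notation "Q'" => Subgroup.map (MulEquiv.toMonoidHom (MulAut.conj g)) Q
local notation "sv" => v (g * z * g⁻¹)

theorem zz'_mem : z * z' ∈ V z g := F.pr.mem_V.mpr (by simp)

theorem sq_mul {x y : G} (hx : x ∈ P Q z g) (hy : y ∈ P' Q z g) :
    x * y * (x * y) = cond (bf (v x) (v (al u y))) (z * z') 1 * (x * x) * (y * y) := by
  cases hb : bf (v x) (v (al u y))
  · have h := (F.comm_rel hx hy).1 hb
    simp only [cond_false, one_mul]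
    calc x * y * (x * y) = x * (y * x) * y := by group
      _ = x * (x * y) * y := by rw [h]
      _ = _ := by group
  · have h := (F.comm_rel hx hy).2 hb
    rcases mul_self_eq h (F.V_central F.zz'_mem (Or.inr hy)) with e | e
    · rw [e, inv_eq_of_mul_eq_one_right (F.V_sq F.zz'_mem)]; rfl
    · exact absurd (F.V_central F.zz'_mem (Or.inl hx)) e

/-- The shape of an involution in the radical. -/
theorem cases_of_sq {x y : G} (hx : x ∈ P Q z g) (hy : y ∈ P' Q z g) (h : x * y * (x * y) = 1) :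
    (qf (v x) = false ∧ qf (v (al u y)) = false ∧ bf (v x) (v (al u y)) = false) ∨
      (qf (v x) = true ∧ qf (v (al u y)) = true ∧ bf (v x) (v (al u y)) = true) := by
  rw [F.sq_mul hx hy] at h
  have hxx : (qf (v x) = false → x * x = 1) ∧ (qf (v x) = true → x * x = z) :=
    ⟨(F.co.sq x (F.mem_P.mp hx).1).mp, fun e => (F.pr.s.sq_cases (F.mem_P.mp hx).1).resolve_left
      fun e' => by rw [F.co.singular (F.mem_P.mp hx).1 e'] at e; exact Bool.false_ne_true e⟩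
  obtain ⟨hy1, hy2⟩ := F.sq_rel hy
  have n1 := F.pr.s.ne_one
  have n2 := F.pr.ne_one'
  have n3 := F.pr.mul_ne_one
  have e1 : z' * z' = 1 := F.pr.s'.zz
  have e2 : z * z = 1 := F.pr.s.zz
  have e3 : z * z' * z = z' := by rw [mul_assoc, ← F.pr.comm, ← mul_assoc, e2, one_mul]
  have e4 : z * z' * z' = z := by rw [mul_assoc, e1, mul_one]
  cases hq : qf (v x) <;> cases ha : qf (v (al u y)) <;> cases hb : bf (v x) (v (al u y)) <;>
    simp only [hq, ha, hb, and_self, Bool.false_eq_true, true_or, or_true, false_and, and_false,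
      or_self, eq_self_iff_true, reduceCtorEq] <;>
    exfalso <;>
    (first | rw [hxx.1 hq] at h | rw [hxx.2 hq] at h) <;>
    (first | rw [hy1.mpr ha] at h | rw [hy2 ha] at h) <;>
    simp only [hb, cond_true, cond_false, one_mul, mul_one, e3, e4, e1] at h
  all_goals first
    | exact n1 h | exact n2 h | exact n3 h

theorem odd1_not_mem {t : G} (h : Odd1 z Q v g t) : t ∉ Q := by
  obtain ⟨x, hx, y, hy, rfl, hsq, hq⟩ := h
  intro hQ
  have hyQ : y ∈ Q := by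
    have := mul_mem (inv_mem (F.mem_P.mp hx).1) hQ
    rwa [inv_mul_cancel_left] at this
  have hyV := F.meet hyQ (F.mem_P'.mp hy).1
  rcases F.cases_of_sq hx hy hsq with ⟨e, -, -⟩ | ⟨-, -, e⟩
  · rw [e] at hq; exact Bool.false_ne_true hq
  · have hal : Eqm sv (v (al u y)) 0 :=
      F.v_mem_V (by
        have := mul_mem (F.conj_u' hyV) (inv_mem hyV)
        rwa [show u * y * u⁻¹ * y⁻¹ = al u y from rfl] at this)
    rw [hal.bf_eq (F.P_perp hx), bf_comm, bf_zero_left] at e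
    exact Bool.false_ne_true e

theorem odd1_commute {t : G} (h : Odd1 z Q v g t) : t * z = z * t ∧ t * z' = z' * t := by
  obtain ⟨x, hx, y, hy, rfl, -, -⟩ := h
  exact ⟨(show Commute x z from F.co.commute_z (F.mem_P.mp hx).1).mul_left
      (show Commute y z from (F.mem_P'.mp hy).2),
    (show Commute x z' from (F.mem_P.mp hx).2).mul_left (show Commute y z' from F.P'_comm hy)⟩

/-- The commutators of `Q` with an involution of the second kind. -/
theorem odd1_comm_Q {t q : G} (h : Odd1 z Q v g t) (hq : q ∈ Q) :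
    q * t * q⁻¹ * t⁻¹ ∈ V z g ∨
      (q * t * q⁻¹ * t⁻¹ ∈ Q ∧ qf (v (q * t * q⁻¹ * t⁻¹)) = true) := by
  obtain ⟨x, hx, y, hy, rfl, hsq, hqx⟩ := h
  obtain ⟨-, hqa, -⟩ := (F.cases_of_sq hx hy hsq).resolve_left (fun e => by
    rw [e.1] at hqx; exact Bool.false_ne_true hqx)
  have hP : ∀ p ∈ P Q z g, p * (x * y) * p⁻¹ * (x * y)⁻¹ ∈ V z g := by
    intro p hp
    have h0 := F.radical_comm hp (one_mem _) hx hy
    rwa [mul_one] at h0
  by_cases hs : bf (v q) sv = false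
  · exact Or.inl (hP q (F.mem_P_of hq hs))
  right
  have hp : u⁻¹ * q ∈ P Q z g := by
    refine F.mem_P_of (mul_mem (inv_mem F.uQ) hq) ?_
    rw [F.co.mul _ (inv_mem F.uQ) _ hq, F.co.v_inv F.uQ, bf_xr_left, eq_true_of_ne_false (show
      bf (v q) sv ≠ false from hs)]
    rcases Bool.eq_false_or_eq_true (bf (v u) sv) with e | e
    · rw [e]; rfl
    · exfalso
      have h' := F.us
      rw [(F.mem_P.mp (F.mem_P_of F.uQ e)).2, mul_inv_cancel_right] at h'
      exact F.pr.mul_ne_right h'.symm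
  set p := u⁻¹ * q with hpdef
  have hqe : q = u * p := by rw [hpdef]; group
  have hal := F.al_mem hy
  have e1 : u * x * u⁻¹ * (al u y) * x⁻¹ = u * (x * y) * u⁻¹ * (x * y)⁻¹ := by rw [al]; group
  have hc := hP p hp
  set ε := p * (x * y) * p⁻¹ * (x * y)⁻¹ with hε
  have e2 : q * (x * y) * q⁻¹ * (x * y)⁻¹ = (u * ε * u⁻¹) * (u * x * u⁻¹ * al u y * x⁻¹) := by
    rw [e1, hqe, hε]; group
  have hxQ := (F.mem_P.mp hx).1
  have halQ := (F.mem_P.mp hal).1
  have hux : u * x * u⁻¹ ∈ Q := mul_mem (mul_mem F.uQ hxQ) (inv_mem F.uQ)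
  have hm : u * x * u⁻¹ * al u y * x⁻¹ ∈ Q := mul_mem (mul_mem hux halQ) (inv_mem hxQ)
  rw [e2]
  refine ⟨mul_mem (F.pr.V_le (F.conj_u' hc)) hm, ?_⟩
  have h1 : v (u * x * u⁻¹ * al u y * x⁻¹) = v (al u y) := by
    rw [F.co.mul _ (mul_mem hux halQ) _ (inv_mem hxQ), F.co.mul _ hux _ halQ, F.co.v_inner F.uQ hxQ,
      F.co.v_inv hxQ, xr_comm (v x) (v (al u y)), xr_assoc, xr_self, xr_zero]
  rw [F.co.mul _ (F.pr.V_le (F.conj_u' hc)) _ hm, h1]
  have := Eqm.xr (F.v_mem_V (F.conj_u' hc)) (Eqm.refl sv (v (al u y)))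
  rw [zero_xr] at this
  rw [this.qf_eq F.sv_qf (F.P_perp hal), hqa]

theorem odd1_conj_x {t : G} {x y : G} (hx : x ∈ P Q z g) (hy : y ∈ P' Q z g) (ht : t = x * y)
    (hsq : t * t = 1) (hq : qf (v x) = true) : x * t * x⁻¹ = z * z' * t := by
  subst ht
  obtain ⟨-, -, hb⟩ := (F.cases_of_sq hx hy hsq).resolve_left (fun e => by
    rw [e.1] at hq; exact Bool.false_ne_true hq)
  have h := (F.comm_rel hx hy).2 hb
  calc x * (x * y) * x⁻¹ = x * (z * z' * (y * x)) * x⁻¹ := by rw [h]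
    _ = (x * (z * z')) * y := by group
    _ = z * z' * x * y := by rw [(F.V_central F.zz'_mem (Or.inl hx)).eq]
    _ = _ := by group

/-- Uniqueness of the pair of an involution of the second kind. -/
theorem odd1_unique {g₂ u₂ t : G} (F₂ : Fr z Q v g₂ u₂) (h : Odd1 z Q v g t) (h₂ : Odd1 z Q v g₂ t) :
    g₂ * z * g₂⁻¹ = z' ∨ g₂ * z * g₂⁻¹ = z * z' := by
  obtain ⟨x, hx, y, hy, ht, hsq, hq⟩ := h₂
  have hxQ := (F₂.mem_P.mp hx).1
  set w := g₂ * z * g₂⁻¹ with hw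
  have e : x * t * x⁻¹ * t⁻¹ = z * w := by
    rw [F₂.odd1_conj_x hx hy ht hsq hq, mul_inv_cancel_right]
  rcases F.odd1_comm_Q h hxQ with hV | ⟨-, hV⟩ <;> rw [e] at hV
  · have hz : z ∈ V z g := F.pr.mem_V.mpr (by simp)
    have := mul_mem hz hV
    rw [← mul_assoc, F.pr.s.zz, one_mul] at this
    rcases F.pr.mem_V.mp this with e | e | e | e
    · exact absurd e F₂.pr.ne_one'
    · exact absurd e F₂.pr.ne
    · exact Or.inl e
    · exact Or.inr e
  · rw [F.co.mul z F.co.z_mem w F₂.pr.mem, F.co.v_z, zero_xr, F₂.sv_qf] at hV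
    exact absurd hV (by simp)

/-- An involution of the second kind lies in no conjugate of `Q` centred in `Q`. -/
theorem odd1_not_conj {g₂ t : G} (h : Odd1 z Q v g t) (c : Pair Q z g₂) :
    t ∉ Subgroup.map (MulEquiv.toMonoidHom (MulAut.conj g₂)) Q := by
  intro hm
  obtain ⟨u₂, F₂⟩ := F.co.exists_fr c
  have htt : t * t = 1 := by obtain ⟨_, _, _, _, _, e, _⟩ := h; exact e
  have htP : t ∈ P' Q z g₂ := F₂.mem_P'.mpr ⟨hm, (F.odd1_commute h).1⟩
  have hbad : ∀ q ∈ Q, q * t * q⁻¹ * t⁻¹ ∈ Q → qf (v (q * t * q⁻¹ * t⁻¹)) = false := by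
    intro q hq hmem
    by_cases hs : bf (v q) (v (g₂ * z * g₂⁻¹)) = false
    · have := F₂.v_mem_V (F₂.comm_mem_V (F₂.mem_P_of hq hs) htP)
      rw [this.qf_eq F₂.sv_qf (bf_zero_left _), qf_zero]
    · have hp : u₂⁻¹ * q ∈ P Q z g₂ := by
        refine F₂.mem_P_of (mul_mem (inv_mem F₂.uQ) hq) ?_
        rw [F.co.mul _ (inv_mem F₂.uQ) _ hq, F.co.v_inv F₂.uQ, bf_xr_left]
        rcases Bool.eq_false_or_eq_true (bf (v u₂) (v (g₂ * z * g₂⁻¹))) with e | e
        · rw [e, eq_true_of_ne_false hs]; rfl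
        · exfalso
          have h' := F₂.us
          rw [(F₂.mem_P.mp (F₂.mem_P_of F₂.uQ e)).2, mul_inv_cancel_right] at h'
          exact F₂.pr.mul_ne_right h'.symm
      have hc := F₂.comm_mem_V hp htP
      have e2 : q * t * q⁻¹ * t⁻¹ = (u₂ * (u₂⁻¹ * q * t * (u₂⁻¹ * q)⁻¹ * t⁻¹) * u₂⁻¹) * al u₂ t := by
        rw [al]; group
      have hal := F₂.al_mem htP
      rw [e2, F.co.mul _ (F₂.pr.V_le (F₂.conj_u' hc)) _ (F₂.mem_P.mp hal).1]
      have := Eqm.xr (F₂.v_mem_V (F₂.conj_u' hc)) (Eqm.refl (v (g₂ * z * g₂⁻¹)) (v (al u₂ t)))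
      rw [zero_xr] at this
      rw [this.qf_eq F₂.sv_qf (F₂.P_perp hal)]
      exact ((F₂.sq_rel htP).1).mp htt
  have hu : bf (v u) sv = true := by
    by_contra e
    rw [Bool.not_eq_true] at e
    have h' := F.us
    rw [(F.mem_P.mp (F.mem_P_of F.uQ e)).2, mul_inv_cancel_right] at h'
    exact F.pr.mul_ne_right h'.symm
  rcases F.odd1_comm_Q h F.uQ with hV | ⟨hQm, hV⟩
  · -- then `t` would be in `Q'` up to `V`
    obtain ⟨x, hx, y, hy, rfl, hsq, hqx⟩ := h
    obtain ⟨-, hqa, -⟩ := (F.cases_of_sq hx hy hsq).resolve_left (fun e => by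
      rw [e.1] at hqx; exact Bool.false_ne_true hqx)
    have hxQ := (F.mem_P.mp hx).1
    have hal := F.al_mem hy
    have e1 : u * (x * y) * u⁻¹ * (x * y)⁻¹ = u * x * u⁻¹ * (al u y) * x⁻¹ := by rw [al]; group
    have hux : u * x * u⁻¹ ∈ Q := mul_mem (mul_mem F.uQ hxQ) (inv_mem F.uQ)
    have h1 := (F.v_mem_V hV)
    rw [e1, F.co.mul _ (mul_mem hux (F.mem_P.mp hal).1) _ (inv_mem hxQ), F.co.mul _ hux _ (F.mem_P.mp hal).1,
      F.co.v_inner F.uQ hxQ, F.co.v_inv hxQ, xr_comm (v x) (v (al u y)), xr_assoc, xr_self, xr_zero] at h1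
    rw [h1.qf_eq F.sv_qf (bf_zero_left _), qf_zero] at hqa
    exact Bool.false_ne_true hqa
  · rw [hbad u F.uQ hQm] at hV
    exact Bool.false_ne_true hV

end Fr

namespace Co

variable {z : G} {Q : Subgroup G} {v : G → V6} (H : Co z Q v)
include H

/-- An involution of the centraliser is of the first kind or of the second. -/
theorem invol_cases {t : G} (ht : t * t = 1) (htz : t * z = z * t) (htQ : t ∉ Q) :
    (∃ g, Pair Q z g ∧ t ∈ Subgroup.map (MulEquiv.toMonoidHom (MulAut.conj g)) Q) ∨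
      ∃ g u, Fr z Q v g u ∧ Odd1 z Q v g t := by
  obtain ⟨L, hL, hLv⟩ := H.par t htz
  have htt : t⁻¹ = t := inv_eq_of_mul_eq_one_right ht
  have h2 : ∀ w, app L (app L w) = w := by
    intro w
    obtain ⟨q, hq, rfl⟩ := H.surj w
    rw [← hLv q hq, ← hLv _ (H.conj_mem htz hq),
      show t * (t * q * t⁻¹) * t⁻¹ = (t * t) * q * (t * t)⁻¹ by group, ht, one_mul, inv_one, mul_one]
  have hne : ∃ w, app L w ≠ w := by
    by_contra hc
    push Not at hc
    exact htQ (H.ker t htz fun a ha => by rw [hLv a ha, hc])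
  obtain ⟨s, hs0, hsq, -, ⟨xv, hxv⟩, hperp⟩ := exists_invol_vector hL h2 hne
  obtain ⟨q, hq, hqx⟩ := H.surj xv
  set q' := t * q * t⁻¹ with hq'
  have hq'Q : q' ∈ Q := H.conj_mem htz hq
  have hv : v (q * q') = s := by rw [H.mul q hq q' hq'Q, hLv q hq, hqx, hxv]
  have ha : q * q' ∈ Q := mul_mem hq hq'Q
  have ha2 : q * q' * (q * q') = 1 := (H.sq _ ha).mp (hv ▸ hsq)
  have hts : t * (q * q') * t⁻¹ = q * q' := by
    have e : t * (q * q') * t⁻¹ = q' * q := by
      rw [show t * (q * q') * t⁻¹ = (t * q * t⁻¹) * ((t * t) * q * (t * t)⁻¹) by rw [hq']; group, ht,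
        inv_one, one_mul, mul_one]
    rw [e]
    have e2 : q' * q' = q * q := by
      rw [show q' * q' = t * (q * q) * t⁻¹ by rw [hq']; group]
      rcases H.st.sq_cases hq with h | h
      · rw [h]; group
      · rw [h, htz, mul_inv_cancel_right]
    have hsz : Commute (q * q) q' := by
      rcases H.st.sq_cases hq with h | h
      · rw [h]; exact Commute.one_left _
      · rw [h]; exact (H.commute_z hq'Q).symm
    have e3 : q * q' * (q * q') = 1 := ha2
    have e4 : q' * q = q⁻¹ * q'⁻¹ := by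
      calc q' * q = q⁻¹ * (q * q' * (q * q')) * q'⁻¹ := by group
        _ = _ := by rw [e3, mul_one]
    have e5 : q * q * (q * q) = 1 := by
      rcases H.st.sq_cases hq with h | h <;> rw [h]
      · exact one_mul 1
      · exact H.st.zz
    calc q' * q = q⁻¹ * q'⁻¹ := e4
      _ = q⁻¹ * q'⁻¹ * (q * q * (q * q)) := by rw [e5, mul_one]
      _ = q⁻¹ * (q'⁻¹ * (q * q)) * (q * q) := by group
      _ = q⁻¹ * ((q * q) * q'⁻¹) * (q * q) := by rw [hsz.inv_right.eq]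
      _ = q * q'⁻¹ * (q' * q') := by rw [e2]; group
      _ = q * q' := by group
  have ha1 : q * q' ≠ 1 := fun e => hs0 (by rw [← hv, e, H.v_one])
  have haz : q * q' ≠ z := fun e => hs0 (by rw [← hv, e, H.v_z])
  obtain ⟨g, hg, hpair⟩ := H.exists_pair ha ha2 ha1 haz
  obtain ⟨u, F⟩ := H.exists_fr hpair
  have hsv : v (g * z * g⁻¹) = s := by rw [hg, hv]
  have hts' : t * (g * z * g⁻¹) = (g * z * g⁻¹) * t := by
    rw [hg]; exact mul_inv_eq_iff_eq_mul.mp hts
  obtain ⟨x, hx, y, hy, hxy⟩ := F.mem_radical htz hts' (fun x hx => by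
    rw [hsv, hLv x (F.mem_P.mp hx).1]
    rcases hperp (v x) (hsv ▸ F.P_perp hx) with h | h
    · exact Or.inl (xr_eq_zero.mp h).symm
    · exact Or.inr (by rw [← h, xr_cancel]))
  rcases F.cases_of_sq hx hy (hxy ▸ ht) with ⟨qx, qa, bxa⟩ | ⟨qx, -, -⟩
  swap
  · exact Or.inr ⟨g, u, F, x, hx, y, hy, hxy, ht, qx⟩
  left
  have hxQ := (F.mem_P.mp hx).1
  have hal := F.al_mem hy
  by_cases hxV : Eqm (v (g * z * g⁻¹)) (v x) 0
  · exact ⟨g, hpair, hxy ▸ mul_mem (F.V_le_Q' (F.mem_V_of hxQ hxV)) (F.mem_P'.mp hy).1⟩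
  have hyV : ¬ Eqm (v (g * z * g⁻¹)) (v (al u y)) 0 := fun h =>
    htQ (hxy ▸ mul_mem hxQ (F.pr.V_le (F.al_inj hy h)))
  have hw := witt_index _ F.sv_ne F.sv_qf (v (al u y)) (fun e => hyV (Or.inl e))
    (fun e => hyV (eqm_zero.mpr (Or.inr e))) qa (by rw [bf_comm]; exact F.P_perp hal) (v x) qx
    (by rw [bf_comm]; exact F.P_perp hx) (by rw [bf_comm]; exact bxa)
  have heq : Eqm (v (g * z * g⁻¹)) (v x) (v (al u y)) := by
    rcases hw with h | h | h | h
    · exact absurd (Or.inl h) hxV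
    · exact absurd (eqm_zero.mpr (Or.inr h)) hxV
    · exact Or.inl h
    · exact Or.inr (h.trans (xr_comm _ _))
  have hε : x * (al u y)⁻¹ ∈ V z g := F.mem_V_of (mul_mem hxQ (inv_mem (F.mem_P.mp hal).1)) (by
    rw [H.mul x hxQ _ (inv_mem (F.mem_P.mp hal).1), H.v_inv (F.mem_P.mp hal).1]
    have := Eqm.xr heq (Eqm.refl (v (g * z * g⁻¹)) (v (al u y)))
    rwa [xr_self] at this)
  have e1 : u * (g * z * g⁻¹) * u⁻¹ = (u * g) * z * (u * g)⁻¹ := by group
  refine ⟨u * g, ⟨H.st, ?_, ?_, hpair.big⟩, ?_⟩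
  · rw [← e1, F.us]; exact mul_mem H.z_mem hpair.mem
  · rw [← e1, F.us]; exact hpair.mul_ne_left
  · have hN : u⁻¹ * (x * (al u y)⁻¹) * u ∈ V z g := by
      have := (Subgroup.mem_normalizer_iff.mp (F.pr.Q_le_normalizer (inv_mem F.uQ)) _).mp hε
      rwa [inv_inv] at this
    obtain ⟨w, hw', hwe⟩ := mul_mem (F.V_le_Q' hN) (F.mem_P'.mp hy).1
    refine ⟨w, hw', ?_⟩
    change u * g * w * (u * g)⁻¹ = t
    change g * w * g⁻¹ = u⁻¹ * (x * (al u y)⁻¹) * u * y at hwe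
    rw [show u * g * w * (u * g)⁻¹ = u * (g * w * g⁻¹) * u⁻¹ by group, hwe, hxy, al]
    group

theorem first_kind_conj {t g : G} (ht : t * t = 1) (ht1 : t ≠ 1) (htQ : t ∉ Q) (c : Pair Q z g)
    (hm : t ∈ Subgroup.map (MulEquiv.toMonoidHom (MulAut.conj g)) Q) : IsConj t z := by
  obtain ⟨q, hq, rfl⟩ := hm
  change g * q * g⁻¹ * (g * q * g⁻¹) = 1 at ht
  change g * q * g⁻¹ ≠ 1 at ht1
  change g * q * g⁻¹ ∉ Q at htQ
  show IsConj (g * q * g⁻¹) z
  have hq2 : q * q = 1 := by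
    rw [show g * q * g⁻¹ * (g * q * g⁻¹) = g * (q * q) * g⁻¹ by group] at ht
    exact conj_eq_one_iff.mp ht
  have hq1 : q ≠ 1 := fun e => ht1 (by rw [e]; group)
  have hqz : q ≠ z := fun e => htQ (e ▸ c.mem)
  exact (isConj_iff.mpr ⟨g⁻¹, by group⟩ : IsConj (g * q * g⁻¹) q).trans (H.isConj_z hq hq2 hq1 hqz)

/-- Conjugation in the centraliser preserves the second kind. -/
theorem odd1_conj {g g₂ c t : G} (c₁ : Pair Q z g) (c₂ : Pair Q z g₂) (hc : c * z = z * c)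
    (hcs : c * (g * z * g⁻¹) * c⁻¹ = g₂ * z * g₂⁻¹) (h : Odd1 z Q v g t) :
    Odd1 z Q v g₂ (c * t * c⁻¹) := by
  obtain ⟨u, F⟩ := H.exists_fr c₁
  obtain ⟨u₂, F₂⟩ := H.exists_fr c₂
  obtain ⟨x, hx, y, hy, rfl, hsq, hq⟩ := h
  obtain ⟨hxQ, hxs⟩ := F.mem_P.mp hx
  refine ⟨c * x * c⁻¹, F₂.mem_P.mpr ⟨H.conj_mem hc hxQ, ?_⟩, c * y * c⁻¹, (F.transport F₂ hc hcs hy).1,
    by group, ?_, (H.conj_qf hc hxQ).trans hq⟩
  · rw [← hcs]
    exact (show Commute x (g * z * g⁻¹) from hxs).map (MulAut.conj c)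
  · rw [show c * (x * y) * c⁻¹ * (c * (x * y) * c⁻¹) = c * (x * y * (x * y)) * c⁻¹ by group, hsq,
      mul_one, mul_inv_cancel]

/-- Every triple is moved to the base triple. -/
theorem normalise {g a b : G} (c : Pair Q z g) (ha : a ∈ Q) (hb : b ∈ Q)
    (has : bf (v a) (v (g * z * g⁻¹)) = false) (hbs : bf (v b) (v (g * z * g⁻¹)) = false)
    (hqa : qf (v a) = true) (hqb : qf (v b) = true) (hab : bf (v a) (v b) = true) :
    ∃ k, k * z = z * k ∧ v (k⁻¹ * (g * z * g⁻¹) * k) = 1 ∧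
      Eqm 1 (v (k⁻¹ * a * k)) 12 ∧ Eqm 1 (v (k⁻¹ * b * k)) 20 := by
  set s := g * z * g⁻¹ with hsd
  obtain ⟨L, hL, hLs⟩ := tab1_spec (v s) (H.ne_zero c.mem c.ne_one' c.ne) (H.singular c.mem c.s'.zz)
  have hLi := (tab1_good L hL).1
  have hinj : ∀ {p q : V6}, app L p = app L q → p = q := by
    intro p q e
    by_contra hpq
    obtain ⟨r, hr⟩ := exists_bf (xr p q) (fun e' => hpq (xr_eq_zero.mp e'))
    rw [← Iso.bf_eq hLi, app_xr, e, xr_self, bf_zero_left] at hr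
    exact Bool.false_ne_true hr
  obtain ⟨k, hk, hkv⟩ := H.real L (tab1_good L hL)
  have hki : k⁻¹ * z = z * k⁻¹ := (show Commute k z from hk).inv_left.eq
  have hm : ∀ {p : G}, p ∈ Q → k⁻¹ * p * k ∈ Q := fun hp => by
    have := H.conj_mem hki hp; rwa [inv_inv] at this
  have ea := H.v_conj_inv hk ha hkv
  have eb := H.v_conj_inv hk hb hkv
  have es : v (k⁻¹ * s * k) = 1 := hinj ((H.v_conj_inv hk c.mem hkv).trans hLs.symm)
  set a' := v (k⁻¹ * a * k) with ha'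
  set b' := v (k⁻¹ * b * k) with hb'
  have h1 : bf 1 a' = false := by rw [← Iso.bf_eq hLi, hLs, ea, bf_comm]; exact has
  have h2 : bf 1 b' = false := by rw [← Iso.bf_eq hLi, hLs, eb, bf_comm]; exact hbs
  obtain ⟨M, hM, hMa, hMb⟩ := tab2_spec a' h1 (by rw [← hLi, ea]; exact hqa) b' h2
    (by rw [← hLi, eb]; exact hqb) (by rw [← Iso.bf_eq hLi, ea, eb]; exact hab)
  obtain ⟨hMg, hM1⟩ := tab2_good M hM
  have hinjM : ∀ {p q : V6}, app M p = app M q → p = q := by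
    intro p q e
    by_contra hpq
    obtain ⟨r, hr⟩ := exists_bf (xr p q) (fun e' => hpq (xr_eq_zero.mp e'))
    rw [← Iso.bf_eq hMg.1, app_xr, e, xr_self, bf_zero_left] at hr
    exact Bool.false_ne_true hr
  obtain ⟨m, hm', hmv⟩ := H.real M hMg
  have conv : ∀ {p : G} {w : V6}, p ∈ Q → (app M w = v (k⁻¹ * p * k) ∨ app M w = xr (v (k⁻¹ * p * k)) 1) →
      Eqm 1 (v ((k * m)⁻¹ * p * (k * m))) w := by
    intro p w hp h
    have e := H.v_conj_inv hm' (hm hp) hmv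
    rw [show (k * m)⁻¹ * p * (k * m) = m⁻¹ * (k⁻¹ * p * k) * m by group]
    rcases h with h | h
    · exact Or.inl (hinjM (e.trans h.symm))
    · refine Or.inr (hinjM ?_)
      rw [e, app_xr, h, hM1, xr_assoc, xr_self, xr_zero]
  refine ⟨k * m, (show Commute k z from hk).mul_left (show Commute m z from hm'), ?_, conv ha hMa, conv hb hMb⟩
  refine hinjM ?_
  rw [show (k * m)⁻¹ * s * (k * m) = m⁻¹ * (k⁻¹ * s * k) * m by group,
    H.v_conj_inv hm' (hm c.mem) hmv, es, hM1]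

end Co

end CfsgLib.SuzType
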