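import Cfsg.Agent.Lib.SuzType.Classes
import Cfsg.Agent.Lib.J2Type.Hyp

/-!
A group with an involution centraliser `2^(1+6)_- . Ω^-(6,2)` has two classes of involutions.
-/

set_option autoImplicit false

namespace CfsgLib.SuzType

open CfsgLib.Extraspecial CfsgLib.Extraspecial.Pair

variable {G : Type*} [Group G] [Finite G] {z : G} {Q : Subgroup G} {v : G → V6}

theorem base_check : bf 12 20 = true ∧ qf 12 = true ∧ qf 20 = true ∧ bf 1 12 = false ∧ bf 1 20 = false :=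
  by decide

theorem base_pair : ∃ a b : V6, bf 1 a = false ∧ bf 1 b = false ∧ bf 12 a = false ∧ bf 12 b = false ∧
    bf 20 a = false ∧ bf 20 b = false ∧ bf a b = true := by
  decide +kernel

namespace Fr

variable {g u : G} (F : Fr z Q v g u)
include F

theorem odd1_data {t : G} (h : Odd1 z Q v g t) :
    ∃ x ∈ P Q z g, ∃ y ∈ P' Q z g, t = x * y ∧ t * t = 1 ∧ qf (v x) = true ∧
      qf (v (al u y)) = true ∧ bf (v x) (v (al u y)) = true := by
  obtain ⟨x, hx, y, hy, rfl, hsq, hq⟩ := h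
  obtain ⟨-, ha, hb⟩ := (F.cases_of_sq hx hy hsq).resolve_left (fun e => by
    rw [e.1] at hq; exact Bool.false_ne_true hq)
  exact ⟨x, hx, y, hy, rfl, hsq, hq, ha, hb⟩

/-- The components of a product in the radical are determined modulo the four-group. -/
theorem components {x y x' y' : G} (hx : x ∈ P Q z g) (hy : y ∈ P' Q z g) (hx' : x' ∈ P Q z g)
    (hy' : y' ∈ P' Q z g) (h : x' * y' = x * y) :
    Eqm (v (g * z * g⁻¹)) (v x') (v x) ∧ Eqm (v (g * z * g⁻¹)) (v (al u y')) (v (al u y)) := by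
  have e : x⁻¹ * x' = y * y'⁻¹ := by
    calc x⁻¹ * x' = x⁻¹ * (x' * y') * y'⁻¹ := by group
      _ = _ := by rw [h]; group
  have hQ := mul_mem (inv_mem (F.mem_P.mp hx).1) (F.mem_P.mp hx').1
  have hV : x⁻¹ * x' ∈ V z g :=
    F.meet hQ (e ▸ mul_mem (F.mem_P'.mp hy).1 (inv_mem (F.mem_P'.mp hy').1))
  constructor
  · have h2 := Eqm.xr (Eqm.refl (v (g * z * g⁻¹)) (v x)) (F.v_mem_V hV)
    rw [← F.co.mul _ (F.mem_P.mp hx).1 _ hQ, mul_inv_cancel_left, xr_zero] at h2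
    exact h2
  · have hV' : y * y'⁻¹ ∈ V z g := e ▸ hV
    have h2 := F.v_al_mul (F.V_le_P' hV') hy'
    rw [inv_mul_cancel_right] at h2
    have h3 : Eqm (v (g * z * g⁻¹)) (v (al u (y * y'⁻¹))) 0 := by
      refine F.v_mem_V ?_
      have := mul_mem (F.conj_u' hV') (inv_mem hV')
      exact this
    have h4 := h2.trans (Eqm.xr h3 (Eqm.refl _ _))
    rw [zero_xr] at h4
    exact h4.symm

/-- Translations by the four-group. -/
theorem translate {t e : G} (h : Odd1 z Q v g t) (he : e ∈ V z g) : ∃ p ∈ Q, p * t * p⁻¹ = e * t := by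
  obtain ⟨x, hx, y, hy, rfl, hsq, hq, ha, hb⟩ := F.odd1_data h
  have h1 : x * (x * y) * x⁻¹ = z * (g * z * g⁻¹) * (x * y) := F.odd1_conj_x hx hy rfl hsq hq
  have hA := F.al_mem hy
  have h2 : al u y * (x * y) * (al u y)⁻¹ = z * (x * y) := by
    have c : Commute (al u y) y := (F.comm_rel hA hy).1 (bf_self _)
    have d : al u y * x * (al u y)⁻¹ = z * x := by
      rcases F.pr.s.comm_cases (F.mem_P.mp hA).1 (F.mem_P.mp hx).1 with e | e
      · have := (F.co.comm _ (F.mem_P.mp hx).1 _ (F.mem_P.mp hA).1).mpr (mul_inv_eq_iff_eq_mul.mp e).symm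
        rw [hb] at this
        exact absurd this (by simp)
      · exact e
    calc al u y * (x * y) * (al u y)⁻¹ = (al u y * x * (al u y)⁻¹) * (al u y * y * (al u y)⁻¹) := by group
      _ = _ := by rw [d, c.eq, mul_inv_cancel_right, mul_assoc]
  have hAQ := (F.mem_P.mp hA).1
  have hxQ := (F.mem_P.mp hx).1
  rcases F.pr.mem_V.mp he with rfl | rfl | rfl | rfl
  · exact ⟨1, one_mem _, by group⟩
  · exact ⟨al u y, hAQ, h2⟩
  · refine ⟨x * al u y, mul_mem hxQ hAQ, ?_⟩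
    rw [show x * al u y * (x * y) * (x * al u y)⁻¹ = x * (al u y * (x * y) * (al u y)⁻¹) * x⁻¹ by group, h2,
      show x * (z * (x * y)) * x⁻¹ = (x * z * x⁻¹) * (x * (x * y) * x⁻¹) by group,
      F.co.commute_z hxQ, mul_inv_cancel_right, h1, show z * (z * (g * z * g⁻¹) * (x * y)) = z * z * (g * z * g⁻¹) * (x * y) by group,
      F.pr.s.zz, one_mul]
  · exact ⟨x, hxQ, h1⟩

end Fr

namespace Co

variable (H : Co z Q v)
include H

theorem exists_odd1 : ∃ g u t, Fr z Q v g u ∧ Odd1 z Q v g t := by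
  obtain ⟨g, hg, hgz⟩ := H.nwc
  obtain ⟨u, F⟩ := H.exists_fr (⟨H.st, hg, hgz, by rw [H.card]; norm_num⟩ : Pair Q z g)
  obtain ⟨L, hL, hLs⟩ := tab1_spec _ F.sv_ne F.sv_qf
  have hLi := (tab1_good L hL).1
  obtain ⟨b1, b2, b3, b4, b5⟩ := base_check
  obtain ⟨x, hx, hxv⟩ := H.surj (app L 12)
  have hxP : x ∈ P Q z g :=
    F.mem_P_of hx (by rw [hxv, ← hLs, Iso.bf_eq hLi, bf_comm]; exact b4)
  obtain ⟨y, hy, hyv⟩ := F.al_surj (w := app L 20) (by rw [← hLs, Iso.bf_eq hLi, bf_comm]; exact b5)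
  have hA := F.P_perp (F.al_mem hy)
  have qy : qf (v (al u y)) = true := by
    rw [← hyv.qf_eq F.sv_qf hA, hLi]; exact b3
  have qx : qf (v x) = true := by rw [hxv, hLi]; exact b2
  have hb : bf (v x) (v (al u y)) = true := by
    rw [← hyv.bf_eq (F.P_perp hxP), hxv, Iso.bf_eq hLi]; exact b1
  refine ⟨g, u, x * y, F, x, hxP, y, hy, rfl, ?_, qx⟩
  have hxx : x * x = z := (F.pr.s.sq_cases hx).resolve_left fun e => by
    rw [H.singular hx e] at qx; exact Bool.false_ne_true qx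
  rw [F.sq_mul hxP hy, hb, hxx, (F.sq_rel hy).2 qy]
  show z * (g * z * g⁻¹) * z * (g * z * g⁻¹) = 1
  rw [show z * (g * z * g⁻¹) * z * (g * z * g⁻¹) = (z * (g * z * g⁻¹)) * (z * (g * z * g⁻¹)) by group]
  exact F.V_sq F.zz'_mem

theorem odd1_isConj {g₁ u₁ g₂ u₂ t₁ t₂ : G} (F₁ : Fr z Q v g₁ u₁) (F₂ : Fr z Q v g₂ u₂)
    (h₁ : Odd1 z Q v g₁ t₁) (h₂ : Odd1 z Q v g₂ t₂) : IsConj t₁ t₂ := by
  -- both are moved to the same pair
  obtain ⟨c, hc, hcs⟩ := H.trans F₁.pr.mem F₁.pr.s'.zz F₁.pr.ne_one' F₁.pr.ne F₂.pr.mem F₂.pr.s'.zz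
    F₂.pr.ne_one' F₂.pr.ne
  refine (isConj_iff.mpr ⟨c, rfl⟩ : IsConj t₁ (c * t₁ * c⁻¹)).trans ?_
  have h₁' := H.odd1_conj F₁.pr F₂.pr hc hcs h₁
  generalize c * t₁ * c⁻¹ = t at h₁'
  set s := g₂ * z * g₂⁻¹ with hsd
  obtain ⟨x, hx, y, hy, rfl, -, qx, qa, bxa⟩ := F₂.odd1_data h₁'
  obtain ⟨x₂, hx₂, y₂, hy₂, rfl, -, qx₂, qa₂, bxa₂⟩ := F₂.odd1_data h₂
  obtain ⟨k, hk, ks, ka, kb⟩ := H.normalise F₂.pr (F₂.mem_P.mp hx).1 (F₂.mem_P.mp (F₂.al_mem hy)).1
    (F₂.P_perp hx) (F₂.P_perp (F₂.al_mem hy)) qx qa bxa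
  obtain ⟨k₂, hk₂, ks₂, ka₂, kb₂⟩ := H.normalise F₂.pr (F₂.mem_P.mp hx₂).1 (F₂.mem_P.mp (F₂.al_mem hy₂)).1
    (F₂.P_perp hx₂) (F₂.P_perp (F₂.al_mem hy₂)) qx₂ qa₂ bxa₂
  obtain ⟨L, hL, hLv⟩ := H.par k₂ hk₂
  have hki : k⁻¹ * z = z * k⁻¹ := (show Commute k z from hk).inv_left.eq
  have hm : ∀ {p : G}, p ∈ Q → k⁻¹ * p * k ∈ Q := fun hp => by
    have := H.conj_mem hki hp; rwa [inv_inv] at this
  set d := k₂ * k⁻¹ with hd
  have hdz : d * z = z * d := (show Commute k₂ z from hk₂).mul_left (show Commute k⁻¹ z from hki)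
  have hdv : ∀ {p : G}, p ∈ Q → v (d * p * d⁻¹) = app L (v (k⁻¹ * p * k)) := fun {p} hp => by
    rw [show d * p * d⁻¹ = k₂ * (k⁻¹ * p * k) * k₂⁻¹ by rw [hd]; group, hLv _ (hm hp)]
  have hL1 : app L 1 = v s := by rw [← ks₂, H.v_conj_inv hk₂ F₂.pr.mem hLv]
  have hds : v (d * s * d⁻¹) = v s := by rw [hdv F₂.pr.mem, ks, hL1]
  obtain ⟨e, he, hes⟩ : ∃ e ∈ Q, (e * d) * s * (e * d)⁻¹ = s := by
    rcases H.eq_or (H.conj_mem hdz F₂.pr.mem) F₂.pr.mem hds with h | h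
    · exact ⟨1, one_mem Q, by rw [one_mul]; exact h⟩
    · refine ⟨u₂, F₂.uQ, ?_⟩
      rw [show u₂ * d * s * (u₂ * d)⁻¹ = u₂ * (d * s * d⁻¹) * u₂⁻¹ by group, h,
        show u₂ * (z * s) * u₂⁻¹ = (u₂ * z * u₂⁻¹) * (u₂ * s * u₂⁻¹) by group, F₂.us,
        H.commute_z F₂.uQ, mul_inv_cancel_right, ← mul_assoc, F₂.pr.s.zz, one_mul]
  set f := e * d with hf
  have hfz : f * z = z * f := (show Commute e z from H.commute_z he).mul_left hdz
  obtain ⟨M, hM, hMv⟩ := H.par f hfz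
  have hMw : ∀ {p : G}, p ∈ Q → app M (v p) = app L (v (k⁻¹ * p * k)) := fun {p} hp => by
    rw [← hMv p hp, show f * p * f⁻¹ = e * (d * p * d⁻¹) * e⁻¹ by rw [hf]; group,
      H.v_inner he (H.conj_mem hdz hp), hdv hp]
  have conv : ∀ {p p₂ : G} {w : V6}, p ∈ Q → p₂ ∈ Q → Eqm 1 (v (k⁻¹ * p * k)) w →
      Eqm 1 (v (k₂⁻¹ * p₂ * k₂)) w → Eqm (v s) (app M (v p)) (v p₂) := by
    intro p p₂ w hp hp₂ h h'
    have := Eqm.map L (h.trans h'.symm)
    rw [hL1, ← hMw hp, H.v_conj_inv hk₂ hp₂ hLv] at this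
    exact this
  obtain ⟨hy', htr⟩ := F₂.transport F₂ hfz hes hy
  have hx' : f * x * f⁻¹ ∈ P Q z g₂ := by
    refine F₂.mem_P.mpr ⟨H.conj_mem hfz (F₂.mem_P.mp hx).1, ?_⟩
    have := (show Commute x s from (F₂.mem_P.mp hx).2).map (MulAut.conj f)
    rw [MulAut.conj_apply, MulAut.conj_apply, hes] at this
    exact this
  have ex : Eqm (v s) (v (f * x * f⁻¹)) (v x₂) := by
    rw [hMv x (F₂.mem_P.mp hx).1]
    exact conv (F₂.mem_P.mp hx).1 (F₂.mem_P.mp hx₂).1 ka ka₂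
  have ey : Eqm (v s) (v (al u₂ (f * y * f⁻¹))) (v (al u₂ y₂)) :=
    (htr M hMv).trans (conv (F₂.mem_P.mp (F₂.al_mem hy)).1 (F₂.mem_P.mp (F₂.al_mem hy₂)).1 kb kb₂)
  have hεx : f * x * f⁻¹ * x₂⁻¹ ∈ V z g₂ :=
    F₂.mem_V_of (mul_mem (F₂.mem_P.mp hx').1 (inv_mem (F₂.mem_P.mp hx₂).1)) (by
      rw [H.mul _ (F₂.mem_P.mp hx').1 _ (inv_mem (F₂.mem_P.mp hx₂).1), H.v_inv (F₂.mem_P.mp hx₂).1]
      have := Eqm.xr ex (Eqm.refl (v s) (v x₂))
      rwa [xr_self] at this)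
  have hεy : y₂⁻¹ * (f * y * f⁻¹) ∈ V z g₂ := F₂.al_cancel hy₂ hy' ey.symm
  set ε := f * x * f⁻¹ * x₂⁻¹ * (y₂⁻¹ * (f * y * f⁻¹)) with hε
  have hc1 : Commute (y₂⁻¹ * (f * y * f⁻¹)) (x₂ * y₂) :=
    (F₂.V_central hεy (Or.inl hx₂)).mul_right (F₂.V_central hεy (Or.inr hy₂))
  have hft : f * (x * y) * f⁻¹ = ε * (x₂ * y₂) := by
    rw [hε, mul_assoc (f * x * f⁻¹ * x₂⁻¹), hc1.eq]; group
  obtain ⟨p, -, hp⟩ := F₂.translate h₂ (mul_mem hεx hεy)
  exact (isConj_iff.mpr ⟨f, hft.trans hp.symm⟩ : IsConj (x * y) (p * (x₂ * y₂) * p⁻¹)).trans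
    (isConj_iff.mpr ⟨p⁻¹, by group⟩)

theorem odd1_not_isConj {g u t : G} (F : Fr z Q v g u) (h : Odd1 z Q v g t) : ¬ IsConj t z := by
  intro hcj
  obtain ⟨h0, hh⟩ := isConj_iff.mp hcj.symm
  have htz := (F.odd1_commute h).1
  have htQ := F.odd1_not_mem h
  have htne : t ≠ z := fun e => htQ (e ▸ H.z_mem)
  set z₂ := h0⁻¹ * z * h0 with hz2
  have hsq : z₂ * z₂ = 1 := by
    rw [hz2, show h0⁻¹ * z * h0 * (h0⁻¹ * z * h0) = h0⁻¹ * (z * z) * h0 by group, H.st.zz]; group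
  have hz2z : z₂ * z = z * z₂ := by
    have e1 : h0⁻¹ * t * h0⁻¹⁻¹ = z := by rw [← hh]; group
    have e2 : h0⁻¹ * z * h0⁻¹⁻¹ = z₂ := by rw [hz2, inv_inv]
    have := (show Commute t z from htz).map (MulAut.conj h0⁻¹)
    rw [MulAut.conj_apply, MulAut.conj_apply, e1, e2] at this
    exact this.symm.eq
  have hz2ne : z₂ ≠ z := fun e => htne (by
    rw [← hh]
    calc h0 * z * h0⁻¹ = h0 * z₂ * h0⁻¹ := by rw [e]
      _ = z := by rw [hz2]; group)
  have hz2Q : z₂ ∉ Q := by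
    intro hm
    have c : Pair Q z h0⁻¹ := ⟨H.st, by rwa [inv_inv], by rwa [inv_inv], by rw [H.card]; norm_num⟩
    obtain ⟨q, hq, hqe⟩ := c.mem'
    change h0⁻¹ * q * h0⁻¹⁻¹ = z at hqe
    apply htQ
    rw [← hh]
    have : q = h0 * z * h0⁻¹ := by rw [← hqe]; group
    exact this ▸ hq
  rcases H.invol_cases hsq hz2z hz2Q with ⟨g', c', hm⟩ | ⟨g', u', F', h'⟩
  · -- `z₂` of the first kind
    set g'' := h0 * g' with hg''
    have hw' : g'' * z * g''⁻¹ = h0 * (g' * z * g'⁻¹) * h0⁻¹ := by rw [hg'']; group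
    have hne : g'' * z * g''⁻¹ ≠ z := by
      intro e
      apply hz2Q
      have : z₂ = g' * z * g'⁻¹ := by
        rw [hz2]
        calc h0⁻¹ * z * h0 = h0⁻¹ * (g'' * z * g''⁻¹) * h0 := by rw [e]
          _ = _ := by rw [hw']; group
      exact this ▸ c'.mem
    have hzin : z ∈ Subgroup.map (MulEquiv.toMonoidHom (MulAut.conj g'')) Q := by
      obtain ⟨q, hq, hqe⟩ := hm
      change g' * q * g'⁻¹ = h0⁻¹ * z * h0 at hqe
      refine ⟨q, hq, ?_⟩
      change g'' * q * g''⁻¹ = z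
      rw [hg'', show h0 * g' * q * (h0 * g')⁻¹ = h0 * (g' * q * g'⁻¹) * h0⁻¹ by group, hqe]
      group
    have hmem : g'' * z * g''⁻¹ ∈ Q := by
      obtain ⟨q, hq, hqe⟩ := hzin
      change g'' * q * g''⁻¹ = z at hqe
      have hq' : g''⁻¹ * z * g''⁻¹⁻¹ = q := by rw [← hqe]; group
      have hqz : q ≠ z := fun e => hne (by rw [e] at hqe; exact hqe)
      have c2 : Pair Q z g''⁻¹ := ⟨H.st, hq'.symm ▸ hq, hq'.symm ▸ hqz, by rw [H.card]; norm_num⟩
      obtain ⟨r, hr, hre⟩ := c2.mem'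
      change g''⁻¹ * r * g''⁻¹⁻¹ = z at hre
      have : r = g'' * z * g''⁻¹ := by rw [← hre]; group
      exact this ▸ hr
    refine F.odd1_not_conj h (⟨H.st, hmem, hne, by rw [H.card]; norm_num⟩ : Pair Q z g'') ?_
    obtain ⟨q, hq, hqe⟩ := c'.mem'
    change g' * q * g'⁻¹ = z at hqe
    refine ⟨q, hq, ?_⟩
    change g'' * q * g''⁻¹ = t
    rw [hg'', show h0 * g' * q * (h0 * g')⁻¹ = h0 * (g' * q * g'⁻¹) * h0⁻¹ by group, hqe, hh]
  · -- `z₂` of the second kind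
    obtain ⟨x, hx, y, hy, hxy, -, qx, qa, bxa⟩ := F.odd1_data h
    obtain ⟨k, hk, ks, ka, kb⟩ := H.normalise F.pr (F.mem_P.mp hx).1 (F.mem_P.mp (F.al_mem hy)).1
      (F.P_perp hx) (F.P_perp (F.al_mem hy)) qx qa bxa
    obtain ⟨L, hL, hLv⟩ := H.par k hk
    obtain ⟨a, b, a1, b1, a2, b2, a3, b3, hab⟩ := base_pair
    have hLs : app L 1 = v (g * z * g⁻¹) := by rw [← ks, H.v_conj_inv hk F.pr.mem hLv]
    have hmk : ∀ w, bf 1 w = false → bf 12 w = false → bf 20 w = false →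
        ∃ p ∈ Q, v p = app L w ∧ p * t = t * p := by
      intro w w1 w2 w3
      obtain ⟨p, hp, hpv⟩ := H.surj (app L w)
      have hpP : p ∈ P Q z g := F.mem_P_of hp (by rw [hpv, ← hLs, Iso.bf_eq hL.1, bf_comm]; exact w1)
      have e1 : bf (v p) (v x) = false := by
        have := (Eqm.map L ka)
        rw [H.v_conj_inv hk (F.mem_P.mp hx).1 hLv, hLs] at this
        rw [this.bf_eq (F.P_perp hpP), hpv, Iso.bf_eq hL.1, bf_comm]; exact w2
      have e2 : bf (v p) (v (al u y)) = false := by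
        have := (Eqm.map L kb)
        rw [H.v_conj_inv hk (F.mem_P.mp (F.al_mem hy)).1 hLv, hLs] at this
        rw [this.bf_eq (F.P_perp hpP), hpv, Iso.bf_eq hL.1, bf_comm]; exact w3
      refine ⟨p, hp, hpv, ?_⟩
      rw [hxy]
      exact (show Commute p x from (H.comm p hp x (F.mem_P.mp hx).1).mp e1).mul_right
        (show Commute p y from (F.comm_rel hpP hy).1 e2)
    obtain ⟨p₁, hp₁, hv₁, hc₁⟩ := hmk a a1 a2 a3
    obtain ⟨p₂, hp₂, hv₂, hc₂⟩ := hmk b b1 b2 b3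
    set s' := g' * z * g'⁻¹ with hs'
    obtain ⟨x', hx', y', hy', hxy', hsq', qx', qa', bxa'⟩ := F'.odd1_data h'
    obtain ⟨k', hk', ks', ka', kb'⟩ := H.normalise F'.pr (F'.mem_P.mp hx').1
      (F'.mem_P.mp (F'.al_mem hy')).1 (F'.P_perp hx') (F'.P_perp (F'.al_mem hy')) qx' qa' bxa'
    have hs'z2 : z₂ * s' = s' * z₂ := (F'.odd1_commute h').2
    have key : ∀ p ∈ Q, p * t = t * p →
        ∃ x₃ ∈ P Q z g', ∃ y₃ ∈ P' Q z g', h0⁻¹ * p * h0 = x₃ * y₃ := by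
      intro p hp hpt
      set c := h0⁻¹ * p * h0 with hc
      have hcz : c * z = z * c := by
        have e1 : h0⁻¹ * t * h0⁻¹⁻¹ = z := by rw [← hh]; group
        have e2 : h0⁻¹ * p * h0⁻¹⁻¹ = c := by rw [hc, inv_inv]
        have := (show Commute p t from hpt).map (MulAut.conj h0⁻¹)
        rw [MulAut.conj_apply, MulAut.conj_apply, e1, e2] at this
        exact this.eq
      have hcz2 : c * z₂ = z₂ * c := by
        rw [hc, hz2]
        calc h0⁻¹ * p * h0 * (h0⁻¹ * z * h0) = h0⁻¹ * (p * z) * h0 := by group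
          _ = h0⁻¹ * (z * p) * h0 := by rw [H.commute_z hp]
          _ = _ := by group
      have hci : c⁻¹ * z = z * c⁻¹ := (show Commute c z from hcz).inv_left.eq
      have hcs : c * s' * c⁻¹ = s' := by
        have hcm : c * s' * c⁻¹ ∈ Q := H.conj_mem hcz F'.pr.mem
        have ecs : c * g' * z * (c * g')⁻¹ = c * s' * c⁻¹ := by rw [hs']; group
        have hne : c * s' * c⁻¹ ≠ z := fun e => F'.pr.ne (by
          calc s' = c⁻¹ * (c * s' * c⁻¹) * c := by group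
            _ = z := by rw [e, hci, mul_assoc, inv_mul_cancel, mul_one])
        have pc : Pair Q z (c * g') := ⟨H.st, ecs.symm ▸ hcm, ecs.symm ▸ hne, F'.pr.big⟩
        obtain ⟨uc, Fc⟩ := H.exists_fr pc
        have hodd := H.odd1_conj F'.pr pc hcz ecs.symm h'
        rw [hcz2, mul_inv_cancel_right] at hodd
        rcases F'.odd1_unique Fc h' hodd with e | e <;> rw [ecs] at e
        · exact e
        exfalso
        set s₀ := h0 * s' * h0⁻¹ with hs0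
        have hs0z : s₀ * z = z * s₀ := by
          rw [show z = h0 * z₂ * h0⁻¹ by rw [hz2]; group, hs0]
          calc h0 * s' * h0⁻¹ * (h0 * z₂ * h0⁻¹) = h0 * (s' * z₂) * h0⁻¹ := by group
            _ = h0 * (z₂ * s') * h0⁻¹ := by rw [hs'z2]
            _ = _ := by group
        have e2 : p * s₀ * p⁻¹ * s₀⁻¹ = t := by
          rw [← hh, show p * s₀ * p⁻¹ * s₀⁻¹ = h0 * (c * s' * c⁻¹ * s'⁻¹) * h0⁻¹ by rw [hc, hs0]; group, e,
            mul_inv_cancel_right]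
        exact htQ (e2 ▸ by
          have := mul_mem hp (H.conj_mem hs0z (inv_mem hp))
          simpa [mul_assoc] using this)
      have hcs' : c * s' = s' * c := mul_inv_eq_iff_eq_mul.mp hcs
      refine F'.mem_radical hcz hcs' fun w hw => ?_
      obtain ⟨hcy, htr⟩ := F'.transport F' hcz hcs hy'
      have hcx : c * x' * c⁻¹ ∈ P Q z g' := by
        refine F'.mem_P.mpr ⟨H.conj_mem hcz (F'.mem_P.mp hx').1, ?_⟩
        have := (show Commute x' s' from (F'.mem_P.mp hx').2).map (MulAut.conj c)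
        rw [MulAut.conj_apply, MulAut.conj_apply, hcs] at this
        exact this
      obtain ⟨ex, ey⟩ := F'.components hx' hy' hcx hcy (by
        rw [← hxy', show c * x' * c⁻¹ * (c * y' * c⁻¹) = c * (x' * y') * c⁻¹ by group, ← hxy', hcz2,
          mul_inv_cancel_right])
      obtain ⟨K, hK, hKv⟩ := H.par k' hk'
      have hki : k'⁻¹ * z = z * k'⁻¹ := (show Commute k' z from hk').inv_left.eq
      have hm : ∀ {q : G}, q ∈ Q → k'⁻¹ * q * k' ∈ Q := fun hq => by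
        have := H.conj_mem hki hq; rwa [inv_inv] at this
      set c' := k'⁻¹ * c * k' with hc'
      have hc'z : c' * z = z * c' :=
        ((show Commute k'⁻¹ z from hki).mul_left (show Commute c z from hcz)).mul_left (show Commute k' z from hk')
      obtain ⟨M, hM, hMv⟩ := H.par c' hc'z
      have hMw : ∀ {q : G}, q ∈ Q → app M (v (k'⁻¹ * q * k')) = v (k'⁻¹ * (c * q * c⁻¹) * k') := by
        intro q hq
        rw [← hMv _ (hm hq), hc']
        congr 1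
        group
      have hK1 : app K 1 = v s' := by rw [← ks', H.v_conj_inv hk' F'.pr.mem hKv]
      have hKinj : ∀ {p q : V6}, app K p = app K q → p = q := by
        intro p q e
        by_contra hpq
        obtain ⟨r, hr⟩ := exists_bf (xr p q) (fun e' => hpq (xr_eq_zero.mp e'))
        rw [← Iso.bf_eq hK.1, app_xr, e, xr_self, bf_zero_left] at hr
        exact Bool.false_ne_true hr
      have hM1 : app M 1 = 1 := by rw [← ks', hMw F'.pr.mem, hcs]
      have pull : ∀ {q q₂ : G}, q ∈ Q → q₂ ∈ Q → Eqm (v s') (v q) (v q₂) →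
          Eqm 1 (v (k'⁻¹ * q * k')) (v (k'⁻¹ * q₂ * k')) := by
        intro q q₂ hq hq₂ e
        rw [← H.v_conj_inv hk' hq hKv, ← H.v_conj_inv hk' hq₂ hKv, ← hK1] at e
        rcases e with e | e
        · exact Or.inl (hKinj e)
        · exact Or.inr (hKinj (e.trans (app_xr K _ _).symm))
      have basec : ∀ {q : G} {w : V6}, q ∈ Q → Eqm (v s') (v (c * q * c⁻¹)) (v q) →
          Eqm 1 (v (k'⁻¹ * q * k')) w → Eqm 1 (app M w) w := by
        intro q w hq e e'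
        have h1 := pull (H.conj_mem hcz hq) hq e
        rw [← hMw hq] at h1
        have h2 := Eqm.map M e'
        rw [hM1] at h2
        exact h2.symm.trans (h1.trans e')
      have r12 := basec (F'.mem_P.mp hx').1 ex ka'
      have r20 : Eqm 1 (app M 20) 20 := by
        refine basec (F'.mem_P.mp (F'.al_mem hy')).1 ?_ kb'
        obtain ⟨N, hN, hNv⟩ := H.par c hcz
        rw [hNv _ (F'.mem_P.mp (F'.al_mem hy')).1]
        exact (htr N hNv).symm.trans ey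
      have hwQ := (F'.mem_P.mp hw).1
      have hw1 : bf 1 (v (k'⁻¹ * w * k')) = false := by
        rw [← Iso.bf_eq hK.1, hK1, H.v_conj_inv hk' hwQ hKv, bf_comm]; exact F'.P_perp hw
      have hr := Eqm.map K (rigid hM hM1 r12 r20 hw1)
      rw [hK1, hMw hwQ, H.v_conj_inv hk' (H.conj_mem hcz hwQ) hKv, H.v_conj_inv hk' hwQ hKv] at hr
      exact hr
    obtain ⟨x₃, hx₃, y₃, hy₃, e₁⟩ := key p₁ hp₁ hc₁
    obtain ⟨x₄, hx₄, y₄, hy₄, e₂⟩ := key p₂ hp₂ hc₂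
    have hV := F'.pr.V_le (F'.radical_comm hx₃ hy₃ hx₄ hy₄)
    have hcm : p₁ * p₂ * p₁⁻¹ * p₂⁻¹ = z := by
      rcases H.st.comm_cases hp₁ hp₂ with e | e
      · have := (H.comm p₁ hp₁ p₂ hp₂).mpr (mul_inv_eq_iff_eq_mul.mp e)
        rw [hv₁, hv₂, Iso.bf_eq hL.1, hab] at this
        exact absurd this (by simp)
      · rw [e, mul_inv_cancel_right]
    rw [← e₁, ← e₂, show h0⁻¹ * p₁ * h0 * (h0⁻¹ * p₂ * h0) * (h0⁻¹ * p₁ * h0)⁻¹ * (h0⁻¹ * p₂ * h0)⁻¹ =
      h0⁻¹ * (p₁ * p₂ * p₁⁻¹ * p₂⁻¹) * h0 by group, hcm] at hV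
    exact hz2Q hV

theorem cov {x : G} (hx : orderOf x = 2) : ∃ c : G, c * x * c⁻¹ * z = z * (c * x * c⁻¹) := by
  haveI : Fact (Nat.Prime 2) := ⟨Nat.prime_two⟩
  set C := Subgroup.centralizer ({z} : Set G) with hC
  have hQC : Q ≤ C := H.st.le_centralizer_z
  haveI hN : (Q.subgroupOf C).Normal := ⟨fun q hq c => by
    rw [Subgroup.mem_subgroupOf] at hq ⊢
    exact H.conj_mem (Subgroup.mem_centralizer_singleton_iff.mp c.2) hq⟩
  have hQp : IsPGroup 2 (Q.subgroupOf C) :=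
    IsPGroup.of_card (n := 7) (by rw [Nat.card_congr (Subgroup.subgroupOfEquivOfLe hQC).toEquiv, H.card]; norm_num)
  obtain ⟨T, hT⟩ := hQp.exists_le_sylow
  obtain ⟨c, hc⟩ := CfsgLib.J2Type.sylow_cov (C := C) (z := z)
    (fun g => Subgroup.mem_centralizer_singleton_iff) H.st.ne_one H.st.zz T (fun c _ hcd => by
      have hcent : (c : G) ∈ Subgroup.centralizer (Q : Set G) := by
        rw [Subgroup.mem_centralizer_iff]
        intro q hq
        exact congrArg Subtype.val (hcd ⟨q, hQC hq⟩ (hT (Subgroup.mem_subgroupOf.mpr hq)))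
      rw [H.st.cQ] at hcent
      exact H.st.mem_zpowers hcent) hx
  exact ⟨c, Subgroup.mem_centralizer_singleton_iff.mp hc⟩

theorem two_classes : ∃ a b : G, orderOf a = 2 ∧ orderOf b = 2 ∧ ¬ IsConj a b ∧
    ∀ x : G, orderOf x = 2 → IsConj x a ∨ IsConj x b := by
  haveI : Fact (Nat.Prime 2) := ⟨Nat.prime_two⟩
  obtain ⟨g, u, t, F, h⟩ := H.exists_odd1
  have hnc := H.odd1_not_isConj F h
  refine ⟨z, t, H.st.ordz, orderOf_eq_prime (by
      rw [pow_two]; obtain ⟨_, _, _, _, _, e, _⟩ := h; exact e)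
    (fun e => F.odd1_not_mem h (e ▸ one_mem Q)), fun e => hnc e.symm, fun x hx => ?_⟩
  obtain ⟨c, hc⟩ := H.cov hx
  set y := c * x * c⁻¹ with hy
  have hxy : IsConj x y := isConj_iff.mpr ⟨c, rfl⟩
  have hy2 : y * y = 1 := by
    rw [hy, show c * x * c⁻¹ * (c * x * c⁻¹) = c * (x ^ 2) * c⁻¹ by rw [pow_two]; group,
      ← hx, pow_orderOf_eq_one, mul_one, mul_inv_cancel]
  have hy1 : y ≠ 1 := fun e => by
    rw [hy, conj_eq_one_iff] at e; rw [e, orderOf_one] at hx; omega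
  by_cases hyQ : y ∈ Q
  · by_cases hyz : y = z
    · exact Or.inl (hyz ▸ hxy)
    · exact Or.inl (hxy.trans (H.isConj_z hyQ hy2 hy1 hyz))
  rcases H.invol_cases hy2 hc hyQ with ⟨g', c', hm⟩ | ⟨g', u', F', h'⟩
  · exact Or.inl (hxy.trans (H.first_kind_conj hy2 hy1 hyQ c' hm))
  · exact Or.inr (hxy.trans (H.odd1_isConj F' F h' h))

end Co

end CfsgLib.SuzType
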