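import Mathlib

/-!
The minus type orthogonal space of dimension six over the field with two elements, on `Fin 64`.
-/

set_option autoImplicit false

namespace CfsgLib.SuzType

/-- A vector. -/
abbrev V6 : Type := Fin 64

/-- Addition of vectors. -/
def xr (a b : V6) : V6 := ⟨a.1 ^^^ b.1, Nat.xor_lt_two_pow (n := 6) a.2 b.2⟩

/-- A coordinate. -/
def cb (v : V6) (i : ℕ) : Bool := v.1.testBit i

/-- The quadratic form. -/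
def qf (v : V6) : Bool :=
  ((cb v 0 && cb v 1) ^^ (cb v 2 && cb v 3)) ^^ ((cb v 4 ^^ cb v 5) ^^ (cb v 4 && cb v 5))

/-- The bilinear form. -/
def bf (a b : V6) : Bool :=
  ((cb a 0 && cb b 1) ^^ (cb a 1 && cb b 0)) ^^ ((cb a 2 && cb b 3) ^^ (cb a 3 && cb b 2)) ^^
    ((cb a 4 && cb b 5) ^^ (cb a 5 && cb b 4))

/-- A linear map, by the images of the unit vectors. -/
structure Lin where
  c0 : V6
  c1 : V6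
  c2 : V6
  c3 : V6
  c4 : V6
  c5 : V6

/-- A conditional vector. -/
def sel (b : Bool) (v : V6) : V6 := cond b v 0

/-- Application of a linear map. -/
def app (L : Lin) (v : V6) : V6 :=
  xr (xr (xr (sel (cb v 0) L.c0) (sel (cb v 1) L.c1)) (xr (sel (cb v 2) L.c2) (sel (cb v 3) L.c3)))
    (xr (sel (cb v 4) L.c4) (sel (cb v 5) L.c5))

/-- An isometry. -/
def Iso (L : Lin) : Prop := ∀ v, qf (app L v) = qf v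

instance (L : Lin) : Decidable (Iso L) := inferInstanceAs (Decidable (∀ _, _))

/-- The number of fixed vectors. -/
def nfix (L : Lin) : ℕ := (Finset.univ.filter fun v => app L v = v).card

/-- An isometry with fixed space of even dimension. -/
def Good (L : Lin) : Prop := Iso L ∧ (nfix L = 1 ∨ nfix L = 4 ∨ nfix L = 16 ∨ nfix L = 64)

instance (L : Lin) : Decidable (Good L) := inferInstanceAs (Decidable (_ ∧ _))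

theorem xr_self (a : V6) : xr a a = 0 := Fin.ext (Nat.xor_self a.1)

theorem xr_comm (a b : V6) : xr a b = xr b a := Fin.ext (Nat.xor_comm a.1 b.1)

theorem xr_assoc (a b c : V6) : xr (xr a b) c = xr a (xr b c) :=
  Fin.ext (Nat.xor_assoc a.1 b.1 c.1)

theorem xr_zero (a : V6) : xr a 0 = a := Fin.ext (Nat.xor_zero a.1)

theorem zero_xr (a : V6) : xr 0 a = a := Fin.ext (Nat.zero_xor a.1)

theorem xr_eq_zero {a b : V6} : xr a b = 0 ↔ a = b := by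
  refine ⟨fun h => ?_, fun h => h ▸ xr_self a⟩
  rw [← xr_zero a, ← xr_self b, ← xr_assoc, h, zero_xr]

theorem xr_cancel (a b : V6) : xr a (xr a b) = b := by rw [← xr_assoc, xr_self, zero_xr]

theorem cb_xr (a b : V6) (i : ℕ) : cb (xr a b) i = (cb a i ^^ cb b i) := Nat.testBit_xor a.1 b.1 i

theorem cb_zero (i : ℕ) : cb 0 i = false := Nat.zero_testBit i

theorem bf_comm : ∀ a b : V6, bf a b = bf b a := by decide +kernel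

theorem bf_self : ∀ a : V6, bf a a = false := by decide +kernel

theorem xor_four : ∀ a b c d : Bool, ((a ^^ b) ^^ (c ^^ d)) = ((a ^^ c) ^^ (b ^^ d)) := by decide

theorem bf_xr_left (a b c : V6) : bf (xr a b) c = (bf a c ^^ bf b c) := by
  simp only [bf, cb_xr, Bool.and_xor_distrib_right, xor_four]

theorem bf_xr_right (a b c : V6) : bf a (xr b c) = (bf a b ^^ bf a c) := by
  rw [bf_comm, bf_xr_left, bf_comm b, bf_comm c]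

theorem bf_zero_left (a : V6) : bf 0 a = false := by simp [bf, cb_zero]

theorem qf_zero : qf 0 = false := by simp [qf, cb_zero]

theorem qf_xr : ∀ a b : V6, qf (xr a b) = (qf a ^^ qf b ^^ bf a b) := by decide +kernel

theorem exists_bf : ∀ a : V6, a ≠ 0 → ∃ b, bf a b = true := by decide +kernel

theorem app_xr (L : Lin) (a b : V6) : app L (xr a b) = xr (app L a) (app L b) := by
  have hs : ∀ (x y : Bool) (v : V6), sel (x ^^ y) v = xr (sel x v) (sel y v) := fun x y v => by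
    cases x <;> cases y <;> simp [sel, xr_self, xr_zero, zero_xr]
  simp only [app, cb_xr, hs]
  haveI : Std.Associative xr := ⟨xr_assoc⟩
  haveI : Std.Commutative xr := ⟨xr_comm⟩
  ac_rfl

theorem app_zero (L : Lin) : app L 0 = 0 := by simp [app, cb_zero, sel, xr_self]

/-- No three independent, mutually orthogonal singular vectors. -/
theorem witt_index : ∀ a : V6, a ≠ 0 → qf a = false → ∀ b : V6, b ≠ 0 → b ≠ a → qf b = false →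
    bf a b = false → ∀ c : V6, qf c = false → bf a c = false → bf b c = false →
    c = 0 ∨ c = a ∨ c = b ∨ c = xr a b := by
  decide +kernel

/-- Movers of the base vector. -/
def tab1 : List Lin :=
  [⟨1, 2, 4, 8, 16, 32⟩, ⟨2, 1, 4, 8, 16, 48⟩, ⟨4, 8, 1, 2, 16, 32⟩, ⟨5, 2, 4, 10, 16, 32⟩,
  ⟨6, 1, 4, 9, 16, 48⟩, ⟨8, 4, 1, 2, 16, 48⟩, ⟨9, 2, 6, 8, 16, 32⟩, ⟨10, 1, 5, 8, 16, 48⟩,
  ⟨15, 1, 5, 9, 16, 48⟩, ⟨19, 1, 4, 8, 16, 49⟩, ⟨23, 1, 4, 9, 16, 49⟩, ⟨27, 1, 5, 8, 16, 49⟩,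
  ⟨28, 4, 1, 2, 16, 52⟩, ⟨29, 2, 6, 10, 16, 34⟩, ⟨30, 1, 5, 9, 16, 49⟩, ⟨35, 1, 4, 8, 17, 49⟩,
  ⟨39, 1, 4, 9, 17, 49⟩, ⟨43, 1, 5, 8, 17, 49⟩, ⟨44, 4, 1, 2, 20, 52⟩, ⟨45, 2, 6, 10, 18, 32⟩,
  ⟨46, 1, 5, 9, 17, 49⟩, ⟨51, 1, 4, 8, 17, 48⟩, ⟨55, 1, 4, 9, 17, 48⟩, ⟨59, 1, 5, 8, 17, 48⟩,
  ⟨60, 4, 1, 2, 20, 48⟩, ⟨61, 2, 6, 10, 18, 34⟩, ⟨62, 1, 5, 9, 17, 48⟩]

theorem tab1_good : ∀ L ∈ tab1, Good L := by
  unfold tab1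
  decide +kernel

theorem tab1_spec : ∀ s : V6, s ≠ 0 → qf s = false → ∃ L ∈ tab1, app L 1 = s := by
  unfold tab1
  decide +kernel

/-- Movers of the base triple. -/
def tab2 : List Lin :=
  [⟨1, 2, 4, 8, 16, 32⟩, ⟨1, 2, 8, 4, 16, 48⟩, ⟨1, 2, 4, 8, 32, 48⟩, ⟨1, 2, 8, 4, 32, 16⟩,
  ⟨1, 2, 4, 8, 48, 16⟩, ⟨1, 2, 8, 4, 48, 32⟩, ⟨1, 2, 44, 60, 12, 20⟩, ⟨1, 2, 60, 44, 24, 20⟩,
  ⟨1, 2, 60, 44, 20, 12⟩, ⟨1, 2, 60, 44, 12, 24⟩, ⟨1, 2, 44, 60, 24, 12⟩, ⟨1, 2, 44, 60, 20, 24⟩,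
  ⟨1, 2, 28, 8, 16, 40⟩, ⟨1, 2, 8, 28, 16, 56⟩, ⟨1, 2, 8, 28, 40, 16⟩, ⟨1, 2, 28, 8, 56, 16⟩,
  ⟨1, 2, 8, 28, 56, 40⟩, ⟨1, 2, 28, 8, 40, 56⟩, ⟨1, 2, 28, 4, 16, 52⟩, ⟨1, 2, 4, 28, 16, 36⟩,
  ⟨1, 2, 4, 28, 36, 52⟩, ⟨1, 2, 28, 4, 52, 36⟩, ⟨1, 2, 4, 28, 52, 16⟩, ⟨1, 2, 28, 4, 36, 16⟩,
  ⟨1, 2, 28, 60, 12, 40⟩, ⟨1, 2, 60, 28, 40, 12⟩, ⟨1, 2, 60, 28, 36, 40⟩, ⟨1, 2, 60, 28, 12, 36⟩,
  ⟨1, 2, 28, 60, 40, 36⟩, ⟨1, 2, 28, 60, 36, 12⟩, ⟨1, 2, 44, 8, 32, 56⟩, ⟨1, 2, 8, 44, 24, 56⟩,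
  ⟨1, 2, 44, 8, 56, 24⟩, ⟨1, 2, 8, 44, 32, 24⟩, ⟨1, 2, 8, 44, 56, 32⟩, ⟨1, 2, 44, 8, 24, 32⟩,
  ⟨1, 2, 44, 4, 32, 20⟩, ⟨1, 2, 4, 44, 20, 32⟩, ⟨1, 2, 44, 4, 52, 32⟩, ⟨1, 2, 4, 44, 32, 52⟩,
  ⟨1, 2, 4, 44, 52, 20⟩, ⟨1, 2, 44, 4, 20, 52⟩, ⟨1, 2, 28, 44, 12, 52⟩, ⟨1, 2, 44, 28, 56, 52⟩,
  ⟨1, 2, 44, 28, 52, 12⟩, ⟨1, 2, 44, 28, 12, 56⟩, ⟨1, 2, 28, 44, 56, 12⟩, ⟨1, 2, 28, 44, 52, 56⟩,
  ⟨1, 2, 60, 8, 48, 24⟩, ⟨1, 2, 8, 60, 24, 48⟩, ⟨1, 2, 60, 8, 40, 48⟩, ⟨1, 2, 8, 60, 40, 24⟩,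
  ⟨1, 2, 60, 8, 24, 40⟩, ⟨1, 2, 8, 60, 48, 40⟩, ⟨1, 2, 60, 4, 48, 36⟩, ⟨1, 2, 4, 60, 20, 36⟩,
  ⟨1, 2, 60, 4, 36, 20⟩, ⟨1, 2, 4, 60, 36, 48⟩, ⟨1, 2, 60, 4, 20, 48⟩, ⟨1, 2, 4, 60, 48, 20⟩]

theorem tab2_good : ∀ L ∈ tab2, Good L ∧ app L 1 = 1 := by
  unfold tab2
  decide +kernel

theorem tab2_spec : ∀ a : V6, bf 1 a = false → qf a = true → ∀ b : V6, bf 1 b = false → qf b = true →
    bf a b = true → ∃ L ∈ tab2, (app L 12 = a ∨ app L 12 = xr a 1) ∧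
      (app L 20 = b ∨ app L 20 = xr b 1) := by
  unfold tab2
  decide +kernel

/-- Movers of singular points orthogonal to the base. -/
def tab3 : List Lin :=
  [⟨1, 2, 8, 4, 16, 48⟩, ⟨1, 2, 8, 4, 16, 48⟩, ⟨1, 2, 4, 28, 16, 36⟩, ⟨1, 2, 4, 28, 16, 36⟩,
  ⟨1, 2, 4, 8, 32, 48⟩, ⟨1, 2, 4, 8, 32, 48⟩, ⟨1, 2, 4, 8, 32, 48⟩, ⟨1, 2, 4, 8, 32, 48⟩,
  ⟨1, 2, 4, 8, 32, 48⟩, ⟨1, 2, 4, 8, 32, 48⟩]

theorem tab3_good : ∀ L ∈ tab3, Good L ∧ app L 1 = 1 := by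
  unfold tab3
  decide +kernel

theorem tab3_spec : ∀ r : V6, bf 1 r = false → qf r = false → r ≠ 0 → r ≠ 1 →
    ∃ L ∈ tab3, app L r ≠ 0 ∧ app L r ≠ 1 ∧ app L r ≠ r ∧ app L r ≠ xr r 1 := by
  unfold tab3
  decide +kernel

end CfsgLib.SuzType
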